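import Cfsg.Agent.Lib.PLocal.ElemAbRep
import Cfsg.Agent.Lib.BG.Prod
import Cfsg.Agent.Lib.Core.MinNormal
import Cfsg.Agent.Lib.Coprime.FT
import Cfsg.Agent.Lib.Char.Burnside
import Cfsg.Agent.Lib.Inv.Count
import Cfsg.Agent.Lib.Linear.Simple

/-! Groups with one class of involutions of prime power size: charts, squares, nine involutions. -/

set_option autoImplicit false

namespace Cfsg.Lib.Pyr

open Subgroup Module Cfsg.Lib.BG
open scoped Cfsg.Lib.Transfer MatrixGroups

universe u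

variable {G : Type*} [Group G]

/-- Linear coordinates on a normal elementary abelian subgroup. -/
structure Ch (p : ℕ) (V : Subgroup G) (M : Type*) [AddCommGroup M] [Module (ZMod p) M] where
  e : M → G
  ρ : G →* (M ≃ₗ[ZMod p] M)
  inj : Function.Injective e
  mem_iff : ∀ x, x ∈ V ↔ ∃ u, e u = x
  map_add : ∀ u w, e (u + w) = e u * e w
  conj : ∀ g u, e (ρ g u) = g * e u * g⁻¹

theorem exists_ch [Finite G] {p : ℕ} [Fact p.Prime] {V : Subgroup G} [V.Normal]
    (hV : IsElementaryAbelian p V) : ∃ n, Nonempty (Ch p V (Fin n → ZMod p)) := by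
  obtain ⟨c⟩ := PLocal.nonempty_elemAbCoord hV
  have hN : ∀ g : G, g ∈ normalizer (V : Set G) := fun g => by rw [normalizer_eq_top]; trivial
  let ι : G →* normalizer (V : Set G) := (MonoidHom.id G).codRestrict _ hN
  exact ⟨c.n, ⟨⟨c.e, (LinearMap.GeneralLinearGroup.generalLinearEquiv _ _).toMonoidHom.comp
    ((Matrix.toLinAlgEquiv' (R := ZMod p) (n := Fin c.n)).toRingEquiv.toMonoidHom.comp
      (c.ρ.comp ι)).toHomUnits, c.inj, c.mem_iff, c.map_add, fun g u => c.conj (ι g) u⟩⟩⟩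

namespace Ch

variable {p : ℕ} {V : Subgroup G} {M M' : Type*} [AddCommGroup M] [Module (ZMod p) M]
  [AddCommGroup M'] [Module (ZMod p) M'] (c : Ch p V M)

/-- Change of coordinates. -/
def congr (φ : M' ≃ₗ[ZMod p] M) : Ch p V M' where
  e u := c.e (φ u)
  ρ := { toFun := fun g => φ.trans ((c.ρ g).trans φ.symm)
         map_one' := by ext; simp
         map_mul' := fun g k => by ext; simp }
  inj := c.inj.comp φ.injective
  mem_iff x := (c.mem_iff x).trans φ.surjective.exists
  map_add u w := by rw [_root_.map_add, c.map_add]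
  conj g u := by simp [c.conj]

theorem mem (u : M) : c.e u ∈ V := (c.mem_iff _).2 ⟨u, rfl⟩

theorem map_zero : c.e 0 = 1 := by simpa using c.map_add 0 0

theorem eq_one {u : M} : c.e u = 1 ↔ u = 0 := by rw [← c.map_zero, c.inj.eq_iff]

theorem fix_iff {g : G} {u : M} : c.ρ g u = u ↔ g * c.e u = c.e u * g := by
  rw [← c.inj.eq_iff, c.conj, mul_inv_eq_iff_eq_mul]

theorem ker : c.ρ.ker = 𝐂(V) := by
  ext g
  rw [MonoidHom.mem_ker, LinearEquiv.ext_iff, mem_centralizer_iff]
  exact ⟨fun h x hx => by obtain ⟨u, rfl⟩ := (c.mem_iff x).1 hx; exact (c.fix_iff.1 (h u)).symm,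
    fun h u => c.fix_iff.2 (h _ (c.mem u)).symm⟩

theorem card_sub {P : G → Prop} : Nat.card {u // P (c.e u)} = Nat.card {x // x ∈ V ∧ P x} :=
  Nat.card_congr (Equiv.ofBijective (fun u => ⟨c.e u, c.mem _, u.2⟩)
    ⟨fun _ _ e => Subtype.ext (c.inj (congrArg Subtype.val e)), fun x => by
      obtain ⟨u, hu⟩ := (c.mem_iff _).1 x.2.1
      exact ⟨⟨u, hu ▸ x.2.2⟩, Subtype.ext hu⟩⟩)

include c in
theorem card : Nat.card V = Nat.card M :=
  (Nat.card_congr (Equiv.ofBijective (fun u => (⟨c.e u, c.mem u⟩ : V))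
    ⟨fun _ _ e => c.inj (congrArg Subtype.val e), fun x =>
      ((c.mem_iff _).1 x.2).imp fun _ => Subtype.ext⟩)).symm

end Ch

theorem even_finrank {F V : Type*} [Field F] [AddCommGroup V] [Module F V] [FiniteDimensional F V]
    (h2 : (2 : F) ≠ 0) {A B : Module.End F V} (hA : A * A = -1) (hB : B * B = -1)
    (hAB : A * B * (A * B) = -1) : Even (finrank F V) := by
  have d : LinearMap.det (-1 : Module.End F V) = (-1) ^ finrank F V := by
    rw [← neg_one_smul F, LinearMap.det_smul, map_one, mul_one]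
  by_contra n
  rw [(Nat.not_even_iff_odd.1 n).neg_one_pow] at d
  have a := congrArg LinearMap.det hA
  have b := congrArg LinearMap.det hB
  have c := congrArg LinearMap.det hAB
  simp only [map_mul, d] at a b c
  exact h2 (by linear_combination c - LinearMap.det B * LinearMap.det B * a + b)

theorem sq_elem [Finite G] {r : ℕ} [Fact r.Prime] (hr : r ≠ 2) {N : Subgroup G} [N.Normal]
    (hN : IsElementaryAbelian r N) {a b : G} (h1 : a * a * (a * a) = 1) (h2 : b * b = a * a)
    (h3 : a * b * (a * b) = a * a) : IsSquare ((𝐂[a * a]).relIndex N) := by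
  obtain ⟨n, ⟨c⟩⟩ := exists_ch hN
  have two : (2 : ZMod r) ≠ 0 := fun e => hr ((Nat.prime_dvd_prime_iff_eq Fact.out Nat.prime_two).1
    ((ZMod.natCast_eq_zero_iff 2 r).1 e))
  let τ : Module.End (ZMod r) (Fin n → ZMod r) := (c.ρ (a * a) : _ →ₗ[_] _) - 1
  have inv : ∀ g : G, g * (a * a) = a * a * g → ∀ u ∈ LinearMap.range τ, c.ρ g u ∈ LinearMap.range τ := by
    rintro g hg _ ⟨u, rfl⟩
    refine ⟨c.ρ g u, ?_⟩
    change c.ρ (a * a) (c.ρ g u) - _ = c.ρ g (c.ρ (a * a) u - u)
    rw [map_sub, ← LinearEquiv.mul_apply, ← LinearEquiv.mul_apply, ← map_mul, ← map_mul, hg]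
    rfl
  have ca : a * (a * a) = a * a * a := by group
  have cb : b * (a * a) = a * a * b := by rw [← h2]; group
  have neg : ∀ u ∈ LinearMap.range τ, c.ρ (a * a) u = -u := by
    rintro _ ⟨u, rfl⟩
    change c.ρ (a * a) (c.ρ (a * a) u - u) = -(c.ρ (a * a) u - u)
    rw [map_sub, ← LinearEquiv.mul_apply, ← map_mul, h1, map_one, neg_sub]
    rfl
  obtain ⟨m, hm⟩ := even_finrank (V := LinearMap.range τ) two (A := (c.ρ a).toLinearMap.restrict (inv a ca))
    (B := (c.ρ b).toLinearMap.restrict (inv b cb))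
    (LinearMap.ext fun u => Subtype.ext (by
      change c.ρ a (c.ρ a u.1) = -u.1
      rw [← LinearEquiv.mul_apply, ← map_mul, neg u u.2]))
    (LinearMap.ext fun u => Subtype.ext (by
      change c.ρ b (c.ρ b u.1) = -u.1
      rw [← LinearEquiv.mul_apply, ← map_mul, h2, neg u u.2]))
    (LinearMap.ext fun u => Subtype.ext (by
      change c.ρ a (c.ρ b (c.ρ a (c.ρ b u.1))) = -u.1
      rw [← LinearEquiv.mul_apply, ← LinearEquiv.mul_apply, ← LinearEquiv.mul_apply, ← map_mul, ← map_mul,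
        ← map_mul, mul_assoc, h3, neg u u.2]))
  have e1 := Core.card_inf_mul_relIndex 𝐂[a * a] N
  have e2 : Nat.card ↥(𝐂[a * a] ⊓ N) = Nat.card (LinearMap.ker τ) := by
    refine Eq.trans ?_ (c.card_sub (P := fun x => x ∈ 𝐂[a * a])).symm |>.trans
      (Nat.card_congr (Equiv.subtypeEquivRight fun u => ?_))
    · exact Nat.card_congr (Equiv.subtypeEquivRight fun _ => and_comm)
    · rw [mem_centralizer_singleton_iff, eq_comm, ← c.fix_iff, LinearMap.mem_ker, ← sub_eq_zero]
      rfl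
  rw [e2, c.card, Module.natCard_eq_pow_finrank (K := ZMod r) (V := Fin n → ZMod r),
    Module.natCard_eq_pow_finrank (K := ZMod r) (V := LinearMap.ker τ),
    ← τ.finrank_range_add_finrank_ker, hm, pow_add, mul_comm, Nat.mul_left_inj (pow_ne_zero _ Nat.card_pos.ne')] at e1
  exact ⟨_, by rw [e1, pow_add]⟩

theorem sq_index (n : ℕ) : ∀ (G : Type u) [Group G] [Finite G] (O : Subgroup G) [O.Normal] (a b : G),
    Nat.card O = n → Odd (Nat.card O) → a * a * (a * a) = 1 → b * b = a * a → a * b * (a * b) = a * a →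
      IsSquare ((𝐂[a * a]).relIndex O) := by
  induction n using Nat.strong_induction_on with | h n ih =>
  intro G _ _ O _ a b hn ho h1 h2 h3
  by_cases h0 : O = ⊥
  · rw [h0, relIndex_bot_right]; exact ⟨1, rfl⟩
  obtain ⟨N, hN, le⟩ := Core.exists_isMinNormal_le inferInstance h0
  have := hN.normal
  have oN : Odd (Nat.card N) := ho.of_dvd_nat (card_dvd_of_le le)
  obtain ⟨r, hr, hE⟩ := hN.isElementaryAbelian (Cfsg.Agent.S0205.result oN)
  haveI := Fact.mk hr
  have s1 := sq_elem (fun e => by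
    subst e
    obtain ⟨x, hx, x1⟩ := (bot_or_exists_ne_one N).resolve_left hN.ne_bot
    exact Nat.not_even_iff_odd.2 oN (even_iff_two_dvd.2
      (orderOf_eq_prime (hE.2 x hx) x1 ▸ Subgroup.orderOf_dvd_natCard N hx))) hE h1 h2 h3
  let f := QuotientGroup.mk' N
  haveI := Normal.map (inferInstance : O.Normal) f (QuotientGroup.mk'_surjective N)
  have k1 := Core.card_map_mul_card_inf_ker f O
  rw [QuotientGroup.ker_mk', inf_eq_right.2 le] at k1
  have s2 := ih _ (by
      have := (one_lt_card_iff_ne_bot N).2 hN.ne_bot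
      have : 0 < Nat.card (O.map f) := Nat.card_pos
      nlinarith) (G ⧸ N) (O.map f) (f a) (f b) rfl (ho.of_dvd_nat (card_map_dvd _ _))
    (by simp only [← map_mul, h1, map_one]) (by simp only [← map_mul, h2]) (by simp only [← map_mul, h3])
  have k2 := coprime_map_cent f (A := zpowers (a * a)) (K := O) le_normalizer_of_normal
    (by
      rw [Nat.card_zpowers]
      exact (Nat.coprime_two_left.2 ho).coprime_dvd_left (orderOf_dvd_of_pow_eq_one (by rw [sq, h1])))
    (Or.inr (Cfsg.Agent.S0205.result ho))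
  rw [MonoidHom.map_zpowers, map_mul, zpowers_eq_closure, zpowers_eq_closure, centralizer_closure,
    centralizer_closure] at k2
  have k3 := Core.card_map_mul_card_inf_ker f (O ⊓ 𝐂[a * a])
  rw [QuotientGroup.ker_mk', ← k2, inf_right_comm, inf_eq_right.2 le, inf_comm, inf_comm N, inf_comm O] at k3
  have e1 := Core.card_inf_mul_relIndex 𝐂[a * a] O
  have e2 := Core.card_inf_mul_relIndex 𝐂[a * a] N
  have e3 := Core.card_inf_mul_relIndex 𝐂[f a * f a] (O.map f)
  rw [← k1, ← k3, ← e2, ← e3, mul_mul_mul_comm] at e1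
  rw [Nat.eq_of_mul_eq_mul_left (Nat.mul_pos Nat.card_pos Nat.card_pos) e1]
  exact s2.mul s1

theorem card_sq_one [Finite G] {W : Subgroup G} (h : ∀ x, x ∈ W ↔ x * x = 1) :
    Nat.card W = Nat.card {x : G // orderOf x = 2} + 1 := by
  rw [← SetLike.coe_sort_coe, Nat.card_coe_set_eq, show (W : Set G) = insert 1 {x | orderOf x = 2} from ?_,
    Set.ncard_insert_of_notMem (by simp)]
  · rfl
  ext x
  rw [SetLike.mem_coe, h, Set.mem_insert_iff, Set.mem_setOf_eq, orderOf_eq_prime_iff, sq]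
  by_cases e : x = 1 <;> simp [e]

/-- The subgroup of involutions, if they commute. -/
def invSub (h : ∀ x y : G, x * x = 1 → y * y = 1 → x * y = y * x) : Subgroup G where
  carrier := {x | x * x = 1}
  mul_mem' := fun {x y} hx hy => by
    change x * y * (x * y) = 1
    rw [mul_assoc, ← mul_assoc y, ← h x y hx hy, mul_assoc, hy, mul_one, hx]
  one_mem' := one_mul 1
  inv_mem' := fun {x} hx => by
    change x⁻¹ * x⁻¹ = 1
    rw [← mul_inv_rev, hx, inv_one]

theorem nine [Finite G] (h : Nat.card {x : G // orderOf x = 2} = 9)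
    (hc : ∀ x y : G, orderOf x = 2 → orderOf y = 2 → ∃ g : G, g * x * g⁻¹ = y) : Group.IsSolvable G := by
  classical
  letI : MulAction G {x : G // orderOf x = 2} :=
    { smul := fun g x => ⟨g * x * g⁻¹, ((MulAut.conj g).orderOf_eq x.1).trans x.2⟩
      one_smul := fun x => Subtype.ext (by change 1 * x.1 * 1⁻¹ = _; simp)
      mul_smul := fun g k x => Subtype.ext (by
        change g * k * x.1 * (g * k)⁻¹ = g * (k * x.1 * k⁻¹) * g⁻¹; group) }
  have sm : ∀ (g : G) (x : {x : G // orderOf x = 2}), g • x = x ↔ x.1 ∈ 𝐂[g] := fun g x => by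
    rw [Subtype.ext_iff, mem_centralizer_singleton_iff, eq_comm (a := x.1 * g), ← mul_inv_eq_iff_eq_mul]
    rfl
  let f := MulAction.toPermHom G {x : G // orderOf x = 2}
  have : Group.IsSolvable f.ker := Coprime.isSolvable_of_not_two_dvd fun k => by
    obtain ⟨t, t1, t2⟩ := Inv.exists_involution_mem_of_even (even_iff_two_dvd.2 k)
    have c : ∀ x y : G, x * x = 1 → y * y = 1 → x * y = y * x := fun x y hx hy => by
      by_cases e : x = 1 ∨ y = 1
      · rcases e with rfl | rfl <;> simp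
      rw [not_or] at e
      obtain ⟨g, rfl⟩ := hc t y t2 (orderOf_eq_prime (by rwa [sq]) e.2)
      exact mem_centralizer_singleton_iff.1 ((sm _ ⟨x, orderOf_eq_prime (by rwa [sq]) e.1⟩).1
        (DFunLike.congr_fun (f.normal_ker.conj_mem t t1 g) _))
    obtain ⟨j, hj⟩ := (IsPGroup.iff_card (p := 2) (G := invSub c)).1 fun x => ⟨1, Subtype.ext (by
      rw [pow_one, sq]; exact x.2)⟩
    rw [card_sq_one fun _ => Iff.rfl, h] at hj
    exact absurd (Nat.prime_five.dvd_of_dvd_pow (hj ▸ (by norm_num : 5 ∣ 9 + 1))) (by norm_num)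
  have : Group.IsSolvable f.range := Char.isSolvable_of_forall_prime_dvd _ 2 3 fun r hr hd => by
    haveI := Fact.mk hr
    obtain ⟨⟨_, g, rfl⟩, hg⟩ := exists_prime_orderOf_dvd_card' r hd
    have := Fintype.ofFinite {x : G // orderOf x = 2}
    have m := Equiv.Perm.card_fixedPoints_modEq (f := (f g : _ → _)) (p := r) (n := 1) (by
      have : f g ^ r = 1 := congrArg Subtype.val (hg ▸ pow_orderOf_eq_one _ : (⟨f g, g, rfl⟩ : f.range) ^ r = 1)
      rw [pow_one]
      exact (Units.val_pow_eq_pow_val (Equiv.Perm.equivUnitsEnd (f g)) r).symm.trans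
        (by rw [← map_pow, this, map_one, Units.val_one]))
    have fx : Nat.card (Function.fixedPoints (f g)) = Nat.card {t : 𝐂[g] // orderOf t = 2} :=
      Nat.card_congr ⟨fun x => ⟨⟨x.1.1, (sm _ _).1 x.2⟩, by rw [orderOf_mk]; exact x.1.2⟩,
        fun t => ⟨⟨t.1.1, by rw [Subgroup.orderOf_coe]; exact t.2⟩, (sm _ _).2 t.1.2⟩,
        fun _ => rfl, fun _ => rfl⟩
    have lt : Nat.card (Function.fixedPoints (f g)) < 9 := by
      rw [← h, Nat.card_coe_set_eq, ← Set.ncard_univ]
      refine Set.ncard_lt_ncard (Set.ssubset_univ_iff.2 fun e => hr.one_lt.ne' ?_)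
      rw [← hg, orderOf_eq_one_iff]
      exact Subtype.ext (Equiv.ext fun x => (e ▸ Set.mem_univ x : x ∈ Function.fixedPoints (f g)))
    rw [← Nat.card_eq_fintype_card, ← Nat.card_eq_fintype_card, h, fx] at m
    rw [fx] at lt
    have d := (Nat.modEq_iff_dvd' lt.le).1 m.symm
    have k : 9 - Nat.card {t : 𝐂[g] // orderOf t = 2} ∣ 72 := by
      rcases isEmpty_or_nonempty {t : 𝐂[g] // orderOf t = 2} with e | ⟨⟨t, ht⟩⟩
      · rw [Nat.card_of_isEmpty]; norm_num
      · obtain ⟨j, hj⟩ := Inv.odd_card_involutions (G := 𝐂[g]) (even_iff_two_dvd.2 (ht ▸ orderOf_dvd_natCard t))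
        rw [hj] at lt ⊢
        have : j < 4 := by omega
        interval_cases j <;> norm_num
    have := (Nat.Prime.dvd_mul hr).1 (show r ∣ 2 ^ 3 * 3 ^ 2 from d.trans k)
    exact this.imp (fun e => (Nat.prime_dvd_prime_iff_eq hr Nat.prime_two).1 (hr.dvd_of_dvd_pow e))
      fun e => (Nat.prime_dvd_prime_iff_eq hr Nat.prime_three).1 (hr.dvd_of_dvd_pow e)
  exact Group.isSolvable_of_ker_le_range f.ker.subtype f.rangeRestrict
    (by rw [MonoidHom.ker_rangeRestrict, range_subtype])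

theorem sl_mul_self {F : Type*} [Field F] (h2 : (2 : F) ≠ 0) {s : SL(2, F)} (h : s * s = 1) :
    s = 1 ∨ s = -1 := by
  have h0 := s.det_coe
  rw [Matrix.det_fin_two] at h0
  have e := eq_inv_of_mul_eq_one_left h
  rw [Matrix.SpecialLinearGroup.SL2_inv_expl] at e
  have e1 : s 0 0 = s 1 1 := congrArg (· 0 0) e
  have e2 : s 0 1 = -s 0 1 := congrArg (· 0 1) e
  have e3 : s 1 0 = -s 1 0 := congrArg (· 1 0) e
  replace e2 : s 0 1 = 0 := by grind
  replace e3 : s 1 0 = 0 := by grind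
  rw [e2, zero_mul, sub_zero, ← e1] at h0
  refine (mul_self_eq_one_iff.1 h0).imp (fun h => ?_) fun h => ?_ <;>
  · ext i j
    fin_cases i <;> fin_cases j <;> simp [← e1, h, e2, e3]

theorem exists_counter {F : Type} [Field F] [Finite F] (h2 : (2 : F) ≠ 0) (h3 : ∃ x : F, x ≠ 0 ∧ x ^ 2 ≠ 1) :
    ∃ (G : Type) (_ : Group G) (_ : Finite G), Nat.card {x : G // orderOf x = 2} = Nat.card F ^ 2 ∧
      (∀ x y : G, orderOf x = 2 → orderOf y = 2 → ∃ g : G, g * x * g⁻¹ = y) ∧ ¬ Group.IsSolvable G := by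
  let V := Fin 2 → F
  let φ : SL(2, F) →* MulAut (Multiplicative V) :=
    { toFun := fun g => AddEquiv.toMultiplicative (Matrix.SpecialLinearGroup.toLin' g).toAddEquiv
      map_one' := by ext; simp
      map_mul' := fun g k => by ext; simp }
  have hφ : ∀ v, φ (-1) v = v⁻¹ := fun v => by
    change Multiplicative.ofAdd (Matrix.mulVec (-1 : SL(2, F)).1 v.toAdd) = _
    simp [Matrix.neg_mulVec]
  have n1 : (-1 : SL(2, F)) ≠ 1 := fun e => h2 (by
    have : (-1 : F) = 1 := by simpa using congrArg (· 0 0) e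
    linear_combination -this)
  let G := Multiplicative V ⋊[φ] SL(2, F)
  have inv : ∀ x : G, orderOf x = 2 ↔ x.right = -1 := by
    rintro ⟨v, g⟩
    rw [orderOf_eq_prime_iff, sq, SemidirectProduct.ext_iff, Ne, SemidirectProduct.ext_iff]
    change (v * φ g v = 1 ∧ g * g = 1) ∧ ¬ (v = 1 ∧ g = 1) ↔ g = -1
    refine ⟨fun ⟨⟨a, b⟩, c⟩ => (sl_mul_self h2 b).resolve_left fun e => c ⟨?_, e⟩, ?_⟩
    · rw [e, map_one] at a
      have : (2 : F) • v.toAdd = 0 := by rw [two_smul]; exact congrArg Multiplicative.toAdd a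
      exact (smul_eq_zero.1 this).resolve_left h2
    · rintro rfl
      exact ⟨⟨by rw [hφ, mul_inv_cancel], by simp⟩, fun e => n1 e.2⟩
  refine ⟨G, inferInstance, Finite.of_equiv _ (SemidirectProduct.equivProd).symm, ?_, ?_, fun h => ?_⟩
  · rw [show Nat.card F ^ 2 = Nat.card (Multiplicative V) by
      rw [Nat.card_congr Multiplicative.toAdd, Nat.card_fun]; simp]
    exact Nat.card_congr ⟨fun x => x.1.left, fun v => ⟨⟨v, -1⟩, (inv _).2 rfl⟩,
      fun x => Subtype.ext (SemidirectProduct.ext rfl ((inv _).1 x.2).symm), fun _ => rfl⟩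
  · rintro ⟨v, g⟩ ⟨w, k⟩ hx hy
    obtain rfl : g = -1 := (inv _).1 hx
    obtain rfl : k = -1 := (inv _).1 hy
    refine ⟨.inl (.ofAdd ((2 : F)⁻¹ • (w.toAdd - v.toAdd))), ?_⟩
    rw [mul_inv_eq_iff_eq_mul]
    refine SemidirectProduct.ext ?_ ((one_mul _).trans (mul_one _).symm)
    change Multiplicative.ofAdd _ * φ 1 v = w * φ (-1) (Multiplicative.ofAdd _)
    rw [map_one, MulAut.one_apply, hφ]
    refine Multiplicative.toAdd.injective ?_
    simp only [toAdd_mul, toAdd_inv, toAdd_ofAdd]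
    have : (2 : F)⁻¹ + 2⁻¹ = 1 := by rw [← two_mul, mul_inv_cancel₀ h2]
    rw [← sub_eq_add_neg, eq_sub_iff_add_eq, add_right_comm, ← add_smul, this, one_smul, sub_add_cancel]
  · have := Group.isSolvable_of_surjective (SemidirectProduct.rightHom_surjective (φ := φ))
    have : Nontrivial SL(2, F) := ⟨_, _, n1⟩
    exact (Group.IsSolvable.commutator_lt_top_of_nontrivial SL(2, F)).ne
      (Linear.commutator_SL_eq_top (Or.inr h3))

end Cfsg.Lib.Pyr
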