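import Mathlib

/-! `GL₃(2)` acting on a homocyclic group or on a quadratic map: two computations. -/

set_option autoImplicit false

namespace Cfsg.Lib.Pyr

/-- The natural module of `GL₃(2)`. -/
abbrev W3 := ZMod 2 × ZMod 2 × ZMod 2

/-- A single Jordan block. -/
def sg3 (u : W3) : W3 := (u.1 + u.2.1, u.2.1 + u.2.2, u.2.2)

/-- The transvection `sg3 ^ 2`. -/
def tv3 (u : W3) : W3 := (u.1 + u.2.2, u.2.1, u.2.2)

variable {G M : Type*} [Group G] [AddCommGroup M] [DistribMulAction G M] [Finite M]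

omit [Finite M] in
theorem exists_last {k : ℕ} {P : ℕ → Prop} (h0 : ¬ P 0) (hk : P k) : ∃ j, ¬ P j ∧ P (j + 1) := by
  induction k with
  | zero => exact absurd hk h0
  | succ k ih => by_cases e : P k; exacts [ih e, ⟨k, e, hk⟩]

theorem ab3 {k : ℕ} (hk : ∀ m : M, 2 ^ k • m = 0) (ι : W3 →+ M) (inj : Function.Injective ι)
    (rng : ∀ m, 2 • m = 0 → ∃ u, ι u = m)
    (full : ∀ f : W3 → W3, (∀ u v, f (u + v) = f u + f v) → Function.Injective f →
      ∃ g : G, ∀ u, g • ι u = ι (f u))
    (faith : ∀ g g' : G, (∀ u, g • ι u = g' • ι u) → ∀ m : M, g • m = g' • m)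
    {σ : G} (hσ : ∀ u, σ • ι u = ι (sg3 u)) {s : M} (hs : σ • s = s) : ∃ y, s = y + (σ * σ) • y := by
  by_contra! ns
  obtain ⟨τ, hτd⟩ : ∃ τ, τ = σ * σ := ⟨_, rfl⟩
  rw [← hτd] at ns
  have hτ : ∀ u, τ • ι u = ι (tv3 u) := fun u => by rw [hτd, mul_smul, hσ, hσ]; congr 1; revert u; decide
  obtain ⟨r, hr⟩ := full (fun u => (u.2.2, u.2.1, u.1 + u.2.2)) (by decide) (by decide)
  obtain ⟨a, ha⟩ := full (fun u => (u.1 + u.2.1, u.2.1, u.2.2)) (by decide) (by decide)
  obtain ⟨b, hb⟩ := full (fun u => (u.1, u.2.1 + u.2.2, u.2.2)) (by decide) (by decide)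
  obtain ⟨c, hc⟩ := full (fun u => (u.2.1, u.1, u.2.2)) (by decide) (by decide)
  obtain ⟨d, hd⟩ := full (fun u => (u.1, u.2.2, u.2.1)) (by decide) (by decide)
  have rel : ∀ {g g' : G}, (∀ u, g • ι u = g' • ι u) → ∀ m : M, g • m = g' • m := faith _ _
  have r3 : ∀ m : M, r • r • r • m = m := by
    simpa only [mul_smul, one_smul] using rel (g := r * r * r) (g' := 1) fun u => by
      simp only [mul_smul, one_smul, hr]; congr 1; revert u; decide
  have tr : ∀ m : M, τ • r • m = r • r • τ • m := by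
    simpa only [mul_smul τ, mul_smul r] using rel (g := τ * r) (g' := r * (r * τ)) fun u => by
      simp only [mul_smul τ, mul_smul r, hr, hτ]; congr 1; revert u; decide
  have rt : ∀ m : M, τ • r • r • m = r • τ • m := fun m => by rw [tr, tr, r3]
  have t2 : ∀ m : M, τ • τ • m = m := by
    simpa only [mul_smul τ, one_smul] using rel (g := τ * τ) (g' := 1) fun u => by
      simp only [mul_smul τ, one_smul, hτ]; congr 1; revert u; decide
  have ta : ∀ m : M, τ • a • m = a • τ • m := by
    simpa only [mul_smul τ, mul_smul a] using rel (g := τ * a) (g' := a * τ) fun u => by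
      simp only [mul_smul τ, mul_smul a, ha, hτ]; congr 1; revert u; decide
  have tb : ∀ m : M, τ • b • m = b • τ • m := by
    simpa only [mul_smul τ, mul_smul b] using rel (g := τ * b) (g' := b * τ) fun u => by
      simp only [mul_smul τ, mul_smul b, hb, hτ]; rfl
  have sb : ∀ m : M, σ • m = b • a • m := by
    simpa only [mul_smul b] using rel (g := σ) (g' := b * a) fun u => by
      simp only [mul_smul b, hb, ha, hσ]; rfl
  have cb : ∀ m : M, τ • c • m = c • b • m := by
    simpa only [mul_smul τ, mul_smul c] using rel (g := τ * c) (g' := c * b) fun u => by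
      simp only [mul_smul τ, mul_smul c, hb, hτ, hc]; rfl
  have da : ∀ m : M, d • τ • m = a • d • m := by
    simpa only [mul_smul d, mul_smul a] using rel (g := d * τ) (g' := a * d) fun u => by
      simp only [mul_smul d, mul_smul a, ha, hτ, hd]; rfl
  -- the map `ω`
  obtain ⟨j, h1, h2⟩ := exists_last (P := fun j => ∀ m : M, 2 ^ j • m = 0) (fun h => by
    have := h (ι (1, 0, 0))
    rw [pow_zero, one_smul, map_eq_zero_iff _ inj] at this
    exact absurd this (by decide)) hk
  choose w hw using fun m => rng (2 ^ j • m) (by rw [smul_smul, ← pow_succ', h2])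
  have wa : ∀ m m', w (m + m') = w m + w m' := fun m m' => inj (by rw [map_add, hw, hw, hw, smul_add])
  have wg : ∀ {g : G} {f : W3 → W3}, (∀ u, g • ι u = ι (f u)) → ∀ m, w (g • m) = f (w m) :=
    fun h m => inj (by rw [← h, hw, hw, smul_comm])
  have ws : ∀ u, ∃ m, w m = u := by
    push Not at h1
    obtain ⟨m, hm⟩ := h1
    have n : w m ≠ 0 := fun e => hm (by rw [← hw, e, map_zero])
    have : ∀ u : W3, u ≠ 0 → ∀ P : W3 → Prop, P u → (∀ u, P u → P (sg3 u)) →
        (∀ u : W3, P u → P (u.2.2, u.2.1, u.1 + u.2.2)) → (∀ u v, P u → P v → P (u + v)) → ∀ v, P v := by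
      intro u u0 P h0 h1 h2 h3
      have k : P (1, 0, 0) := by
        have : u = (1, 0, 0) ∨ sg3 u + u = (1, 0, 0) ∨ sg3 (sg3 u) + u = (1, 0, 0) := by
          clear h0; revert u; decide
        rcases this with e | e | e <;> rw [← e]
        exacts [h0, h3 _ _ (h1 _ h0) h0, h3 _ _ (h1 _ (h1 _ h0)) h0]
      have k3 : P (0, 0, 1) := h2 _ k
      have k2 : P (0, 1, 0) := h3 _ _ (h1 _ k3) k3
      intro v
      have : v = (1, 0, 0) + (1, 0, 0) ∨ v = (1, 0, 0) ∨ v = (0, 1, 0) ∨ v = (0, 0, 1) ∨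
        v = (1, 0, 0) + (0, 1, 0) ∨ v = (1, 0, 0) + (0, 0, 1) ∨ v = (0, 1, 0) + (0, 0, 1) ∨
        v = (1, 0, 0) + (0, 1, 0) + (0, 0, 1) := by revert v; decide
      rcases this with e | e | e | e | e | e | e | e <;> rw [e]
      exacts [h3 _ _ k k, k, k2, k3, h3 _ _ k k2, h3 _ _ k k3, h3 _ _ k2 k3, h3 _ _ (h3 _ _ k k2) k3]
    exact this _ n (fun u => ∃ m, w m = u) ⟨m, rfl⟩ (fun _ ⟨m, e⟩ => ⟨σ • m, e ▸ wg hσ m⟩)
      (fun _ ⟨m, e⟩ => ⟨r • m, e ▸ wg hr m⟩) fun _ _ ⟨m, e⟩ ⟨m', e'⟩ => ⟨m + m', e ▸ e' ▸ wa m m'⟩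
  have wk : ∀ m, w m = 0 → ∃ u, 2 • u = m := by
    have e : (nsmulAddMonoidHom 2 : M →+ M).range = (AddMonoidHom.mk' w wa).ker := by
      refine AddSubgroup.eq_of_le_of_card_ge (by
        rintro _ ⟨u, rfl⟩
        exact inj (by rw [map_zero]; exact (hw _).trans (by
          rw [nsmulAddMonoidHom_apply, smul_smul, ← pow_succ, h2]))) (le_of_eq ?_)
      have i1 := AddSubgroup.index_range (f := (nsmulAddMonoidHom 2 : M →+ M))
      have i2 := AddSubgroup.index_ker (AddMonoidHom.mk' w wa)
      rw [AddMonoidHom.range_eq_top.2 (show Function.Surjective (AddMonoidHom.mk' w wa) from ws), AddSubgroup.card_top] at i2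
      rw [← Nat.card_congr (Equiv.ofBijective (fun u => (⟨ι u, by
        rw [AddMonoidHom.mem_ker, nsmulAddMonoidHom_apply, ← map_nsmul, show 2 • u = 0 by revert u; decide,
          map_zero]⟩ : (nsmulAddMonoidHom 2 : M →+ M).ker)) ⟨fun _ _ e => inj (congrArg Subtype.val e),
          fun m => (rng m m.2).imp fun _ => Subtype.ext⟩), ← i2] at i1
      have := (nsmulAddMonoidHom 2 : M →+ M).range.card_mul_index
      rw [i1, ← (AddMonoidHom.mk' w wa).ker.card_mul_index] at this
      exact (Nat.eq_of_mul_eq_mul_right (Nat.pos_of_ne_zero AddSubgroup.index_ne_zero_of_finite) this).symm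
    exact fun m h => (e ▸ h : m ∈ (nsmulAddMonoidHom 2 : M →+ M).range)
  have last : ∀ m : M, m ≠ 0 → ∃ (i : ℕ) (u : W3), u ≠ 0 ∧ ι u = 2 ^ i • m := fun m m0 => by
    obtain ⟨i, i1, i2⟩ := exists_last (P := fun i => 2 ^ i • m = 0) (by simpa using m0) (hk m)
    obtain ⟨u, hu⟩ := rng (2 ^ i • m) (by rw [smul_smul, ← pow_succ', i2])
    exact ⟨i, u, fun e => i1 (by rw [← hu, e, map_zero]), hu⟩
  -- step 1
  have ts : τ • s = s := by rw [hτd, mul_smul, hs, hs]
  obtain ⟨u, hu⟩ := wk (s + r • s + r • r • s) (by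
    have := wg hσ s
    rw [hs] at this
    rw [wa, wa, wg hr (r • s), wg hr]
    revert this
    generalize w s = v
    revert v; decide)
  set u' := u + r • u + r • r • u with hu'
  have ru : r • u' = u' := by simp only [hu', smul_add, r3]; abel
  have u3 : 2 • u' = 3 • (s + r • s + r • r • s) := by
    rw [hu', smul_add, smul_add, ← smul_comm r, ← smul_comm r, ← smul_comm r, hu]
    simp only [smul_add, r3]; abel
  obtain ⟨v, hv⟩ := rng (τ • u' - u') (by
    rw [smul_sub, ← smul_comm τ, u3, smul_comm τ, smul_add τ, smul_add τ, rt, tr, ts]; abel)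
  have e1 : s = ι v + ((u' - (s + r • s + r • r • s) - r • (3 • s - (s + r • s + r • r • s)) - s) +
      τ • (u' - (s + r • s + r • r • s) - r • (3 • s - (s + r • s + r • r • s)) - s)) := by
    have v2 : ι v + ι v = 0 := by rw [← map_add, (by decide : ∀ v : W3, v + v = 0), map_zero]
    rw [eq_neg_of_add_eq_zero_left v2, hv]
    simp only [smul_sub, smul_add, smul_comm r (3 : ℕ), smul_comm τ (3 : ℕ), rt, tr, ts, r3]
    rw [← sub_eq_zero, ← sub_eq_zero.2 u3.symm]
    abel
  generalize u' - (s + r • s + r • r • s) - r • (3 • s - (s + r • s + r • r • s)) - s = y₀ at e1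
  obtain rfl : v = (0, 1, 0) := by
    have k : r • ι v = ι v := by rw [hv, smul_sub, ← rt, ru, ru]
    rw [hr, inj.eq_iff] at k
    have : v ≠ 0 := fun e => ns y₀ (by rw [e1, e, map_zero, zero_add])
    revert k this; clear hv e1; revert v; decide
  -- step 2
  have f1 : ∀ y u, ι u = y + τ • y → u = 0 ∨ u = (1, 0, 0) := fun y u e => by
    have k : τ • ι u = ι u := by rw [e, smul_add, t2, add_comm]
    rw [hτ, inj.eq_iff] at k
    have n : u + (u.2.2, u.2.1, u.1 + u.2.2) + (u.1 + u.2.2, u.2.1, u.2.2 + (u.1 + u.2.2)) ≠ (0, 1, 0) :=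
      fun k => ns (y + r • y + r • r • y + y₀) (by
        rw [e1, ← k, map_add, map_add, ← hr (u.2.2, u.2.1, u.1 + u.2.2), ← hr, e]
        simp only [smul_add, rt, tr]; abel)
    revert k n; clear e; revert u; decide
  -- step 3
  have f2 : ∀ y : M, y + τ • y + b • (y + τ • y) = 0 := fun y => by_contra fun n => by
    obtain ⟨i, u, u0, e⟩ := last _ n
    have k1 := f1 (2 ^ i • (y + b • y)) u (by rw [e]; simp only [smul_add, smul_comm τ (2 ^ i : ℕ), tb]; abel)
    have k2 := f1 (2 ^ i • c • (y + τ • y)) (u.2.1, u.1, u.2.2) (by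
      rw [← hc, e, smul_comm τ, cb, smul_comm c, smul_add c, smul_add])
    revert u0 k1 k2; clear e; revert u; decide
  -- step 4
  have f3 : ∀ y : M, y + τ • y + a • (y + τ • y) = 0 := by
    let K : AddSubgroup M := (AddMonoidHom.mk' (fun y : M => y + τ • y + a • (y + τ • y)) fun y z => by
      simp only [smul_add]; abel).ker
    have k1 : ∀ y : M, y + τ • y = 0 → y ∈ K := fun y e => by
      change y + τ • y + a • (y + τ • y) = 0
      rw [e, smul_zero, add_zero]
    obtain ⟨y1, w1⟩ := ws (0, 0, 1)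
    obtain ⟨y2, w2⟩ := ws (0, 1, 0)
    have wn : ∀ m, w (-m) = w m := fun m => by
      have := wa (-m) m
      have z := wa 0 0
      rw [neg_add_cancel] at this
      rw [add_zero, left_eq_add] at z
      rw [z] at this
      revert this; generalize w (-m) = p; generalize w m = q; revert p q; decide
    have z2 : (y2 + r • y2 + r • r • y2) + τ • (y2 + r • y2 + r • r • y2) = 0 := by_contra fun n => by
      obtain ⟨i, u, u0, e⟩ := last _ n
      have k1 := f1 (2 ^ i • (y2 + r • y2 + r • r • y2)) u (by rw [e, smul_comm τ, smul_add])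
      have k2 : r • ι u = ι u := by
        rw [e, smul_comm r]; simp only [smul_add, rt, tr, r3]; abel
      rw [hr, inj.eq_iff] at k2
      revert u0 k1 k2; clear e; revert u; decide
    have sur : ∀ u, ∃ y ∈ K, w y = u := by
      have a1 : ∃ y ∈ K, w y = (1, 0, 0) := ⟨τ • y1 + -y1, k1 _ (by simp only [smul_add, smul_neg, t2]; abel),
        by rw [wa, wn, wg hτ, w1]; rfl⟩
      have a2 : ∃ y ∈ K, w y = (0, 1, 0) := ⟨_, k1 _ z2, by rw [wa, wa, wg hr (r • y2), wg hr, w2]; rfl⟩
      have a3 : ∃ y ∈ K, w y = (0, 0, 1) := ⟨d • (y2 + r • y2 + r • r • y2), by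
        generalize y2 + r • y2 + r • r • y2 = y at z2
        change d • y + τ • d • y + a • (d • y + τ • d • y) = 0
        rw [smul_add a, ← ta, add_add_add_comm, ← smul_add τ, ← da, ← smul_add d, z2]
        simp, by rw [wg hd, wa, wa, wg hr (r • y2), wg hr, w2]; rfl⟩
      have ad : ∀ {u v}, (∃ y ∈ K, w y = u) → (∃ y ∈ K, w y = v) → ∃ y ∈ K, w y = u + v :=
        fun ⟨y, p, q⟩ ⟨y', p', q'⟩ => ⟨y + y', add_mem p p', by rw [wa, q, q']⟩
      intro v
      have : v = (1, 0, 0) + (1, 0, 0) ∨ v = (1, 0, 0) ∨ v = (0, 1, 0) ∨ v = (0, 0, 1) ∨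
        v = (1, 0, 0) + (0, 1, 0) ∨ v = (1, 0, 0) + (0, 0, 1) ∨ v = (0, 1, 0) + (0, 0, 1) ∨
        v = (1, 0, 0) + (0, 1, 0) + (0, 0, 1) := by revert v; decide
      rcases this with e | e | e | e | e | e | e | e <;> rw [e]
      exacts [ad a1 a1, a1, a2, a3, ad a1 a2, ad a1 a3, ad a2 a3, ad (ad a1 a2) a3]
    have nak : ∀ (i : ℕ) (m : M), ∃ y ∈ K, ∃ u, m = y + 2 ^ i • u := fun i => by
      induction i with
      | zero => exact fun m => ⟨0, zero_mem _, m, by simp⟩
      | succ i ih =>
        intro m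
        obtain ⟨y, p, u, rfl⟩ := ih m
        obtain ⟨z, q, e⟩ := sur (w u)
        obtain ⟨x, hx⟩ := wk (u + -z) (by rw [wa, wn, e]; generalize w u = p; revert p; decide)
        exact ⟨y + 2 ^ i • z, add_mem p (nsmul_mem q _), x, by
          rw [pow_succ, mul_smul, hx, smul_add, smul_neg]; abel⟩
    intro m
    obtain ⟨y, p, u, rfl⟩ := nak k m
    rw [hk, add_zero]
    exact p
  rw [e1, smul_add, sb (y₀ + τ • y₀), eq_neg_of_add_eq_zero_right (f3 y₀), smul_neg,
    eq_neg_of_add_eq_zero_right (f2 y₀), neg_neg, add_left_inj, hσ, inj.eq_iff] at hs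
  exact absurd hs (by decide)

set_option synthInstance.maxSize 1024 in
theorem tv_exists : ∀ a b : W3, a ≠ 0 → b ≠ 0 → a ≠ b → ∃ c : W3,
    (∀ x y : W3, x + y + (c.1 * (x + y).1 + c.2.1 * (x + y).2.1 + c.2.2 * (x + y).2.2) • a =
      x + (c.1 * x.1 + c.2.1 * x.2.1 + c.2.2 * x.2.2) • a + (y + (c.1 * y.1 + c.2.1 * y.2.1 + c.2.2 * y.2.2) • a)) ∧
    (∀ x : W3, x + (c.1 * x.1 + c.2.1 * x.2.1 + c.2.2 * x.2.2) • a = 0 → x = 0) ∧
    a + (c.1 * a.1 + c.2.1 * a.2.1 + c.2.2 * a.2.2) • a = a ∧
    b + (c.1 * b.1 + c.2.1 * b.2.1 + c.2.2 * b.2.2) • a = b ∧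
    ∀ x : W3, x + (c.1 * x.1 + c.2.1 * x.2.1 + c.2.2 * x.2.2) • a = x → x = 0 ∨ x = a ∨ x = b ∨ x = a + b := by
  decide +kernel

theorem suz3 {k : ℕ} (hk : Nat.card M = 2 ^ k) (h2 : ∀ v : M, v + v = 0) (q : M → W3)
    (q0 : ∀ v, q v = 0 ↔ v = 0)
    (hβ : ∀ u v v', q (u + (v + v')) + q (v + v') + q u = q (u + v) + q v + (q (u + v') + q v'))
    (full : ∀ f : W3 → W3, (∀ u v, f (u + v) = f u + f v) → Function.Injective f →
      ∃ g : G, ∀ v, q (g • v) = f (q v))
    {σ : G} (hσ : ∀ v, q (σ • v) = sg3 (q v)) (σ4 : ∀ v : M, σ • σ • σ • σ • v = v) (u v : M) :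
    q (u + v) = q u + q v := by
  classical
  have := Fintype.ofFinite M
  obtain ⟨τ, hτd⟩ : ∃ τ, τ = σ * σ := ⟨_, rfl⟩
  have hτ : ∀ v, q (τ • v) = tv3 (q v) := fun v => by
    rw [hτd, mul_smul, hσ, hσ]; generalize q v = w; revert w; decide
  have t2 : ∀ v : M, τ • τ • v = v := fun v => by simp only [hτd, mul_smul, σ4]
  set m := (Finset.univ.filter fun v => q v = (0, 1, 0)).card with hm
  have fib : ∀ w, w ≠ 0 → (Finset.univ.filter fun v => q v = w).card = m := fun w w0 => by
    obtain ⟨a, b, f1, f2⟩ := (by decide : ∀ w : W3, w ≠ 0 → ∃ a b : W3,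
      (∀ x : W3, x.1 • a + x.2.1 • w + x.2.2 • b = 0 → x = 0) ∧
      ∀ x y : W3, (x + y).1 • a + (x + y).2.1 • w + (x + y).2.2 • b =
        x.1 • a + x.2.1 • w + x.2.2 • b + (y.1 • a + y.2.1 • w + y.2.2 • b)) w w0
    have inj : Function.Injective fun x : W3 => x.1 • a + x.2.1 • w + x.2.2 • b :=
      (injective_iff_map_eq_zero (AddMonoidHom.mk' _ f2)).2 f1
    obtain ⟨g, hg⟩ := full _ f2 inj
    refine (Finset.card_equiv (MulAction.toPerm g) fun v => ?_).symm
    simp only [Finset.mem_filter, Finset.mem_univ, true_and, MulAction.toPerm_apply, hg]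
    exact (inj.eq_iff' (by simp)).symm
  have tot : ∀ s : Finset W3, 0 ∈ s → (Finset.univ.filter fun v => q v ∈ s).card = 1 + (s.card - 1) * m := by
    intro s hs
    rw [Finset.card_eq_sum_card_fiberwise (f := q) (t := s) (fun v hv => by simpa using hv),
      ← Finset.add_sum_erase _ _ hs, Finset.sum_congr rfl (g := fun _ => m), Finset.sum_const,
      Finset.card_erase_of_mem hs, smul_eq_mul]
    · congr 1
      exact Finset.card_eq_one.2 ⟨0, by ext v; simp [q0, (q0 0).2 rfl, hs]; rintro rfl; rwa [(q0 0).2 rfl]⟩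
    · intro w hw
      rw [← fib w (Finset.ne_of_mem_erase hw), Finset.filter_filter]
      exact congrArg _ (Finset.filter_congr fun v _ => ⟨fun h => h.2, fun h => ⟨h ▸ Finset.mem_of_mem_erase hw, h⟩⟩)
  have c1 : Nat.card M = 1 + 7 * m := by
    have := tot Finset.univ (Finset.mem_univ _)
    simpa [Nat.card_eq_fintype_card] using this
  have m1 : m ≤ 1 := by
    by_contra! m2
    have k3 : 3 < k := by
      by_contra! e
      have := Nat.pow_le_pow_right two_pos e
      omega
    have d16 : 16 ∣ 1 + 7 * m := by rw [← c1, hk]; exact pow_dvd_pow 2 k3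
    let η : M →+ M := AddMonoidHom.mk' (fun v => v + τ • v) fun x y => by rw [smul_add]; abel
    have mk : ∀ v, v ∈ η.ker ↔ τ • v = v := fun v =>
      ⟨fun h => by rw [← add_left_cancel_iff (a := v), h2]; exact h, fun h => by
        change v + τ • v = 0; rw [h, h2]⟩
    have rk : η.range ≤ η.ker := by
      rintro _ ⟨v, rfl⟩
      exact (mk _).2 (by change τ • (v + τ • v) = v + τ • v; rw [smul_add, t2, add_comm])
    have c2 := η.ker.card_mul_index
    rw [AddSubgroup.index_ker, c1] at c2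
    have c3 : Nat.card η.ker ≤ 1 + 3 * m := by
      refine le_trans ?_ (tot (Finset.univ.filter fun w => tv3 w = w) (by decide)).le
      rw [← Nat.card_eq_finsetCard]
      exact Nat.card_le_card_of_injective (fun v => ⟨v.1, by
        simp only [Finset.mem_filter, Finset.mem_univ, true_and]
        rw [← hτ, (mk _).1 v.2]⟩) fun _ _ e => Subtype.ext (Subtype.mk.inj e)
    set b := (Finset.univ.filter fun v => q v = (0, 1, 0) ∧ τ • v = v).card with hb
    have bo : b % 2 = 1 := by
      have := Equiv.Perm.card_fixedPoints_modEq (α := {v // q v = (0, 1, 0)}) (p := 2) (n := 1)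
        (f := fun v => ⟨τ • v.1, by rw [hτ, v.2]; rfl⟩) (funext fun v => Subtype.ext (t2 v))
      rw [Fintype.card_subtype, ← hm, show Fintype.card _ = b from ?_] at this
      · unfold Nat.ModEq at this; omega
      rw [hb, ← Fintype.card_subtype]
      exact Fintype.card_congr ⟨fun v => ⟨v.1.1, v.1.2, congrArg Subtype.val v.2⟩,
        fun v => ⟨⟨v.1, v.2.1⟩, Subtype.ext v.2.2⟩, fun _ => rfl, fun _ => rfl⟩
    let X := Finset.univ.filter fun v => τ • v = v ∧ (q v).2.1 = 1
    have cX : X.card = 2 * b := by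
      have e : (Finset.univ.filter fun v => q v = (1, 1, 0) ∧ τ • v = v).card = b :=
        (Finset.card_equiv (MulAction.toPerm σ) fun v => by
          simp only [Finset.mem_filter, Finset.mem_univ, true_and, MulAction.toPerm_apply, hσ]
          rw [show τ • σ • v = σ • τ • v by simp only [hτd, mul_smul], smul_left_cancel_iff]
          refine and_congr_left fun _ => ?_
          generalize q v = w; revert w; decide).symm
      rw [two_mul]
      nth_rw 2 [← e]
      rw [hb, ← Finset.card_union_of_disjoint (Finset.disjoint_filter.2 fun v _ h h' =>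
        absurd (h.1.symm.trans h'.1) (by decide)), ← Finset.filter_or]
      refine congrArg _ (Finset.filter_congr fun v _ => ?_)
      rw [← or_and_right, and_comm]
      refine and_congr_left fun h => ?_
      have := hτ v
      rw [h] at this
      revert this; generalize q v = w; revert w; decide
    have lin : ∀ u ∈ η.ker, ∀ r ∈ η.range, (q (u + r)).2.1 = (q u).2.1 + (q r).2.1 := by
      rintro u hu _ ⟨v, rfl⟩
      have e1 := hβ u v (τ • v)
      have e2 := hτ (u + v)
      rw [smul_add, (mk u).1 hu] at e2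
      rw [e2, hτ] at e1
      change (q (u + (v + τ • v))).2.1 = _ + (q (v + τ • v)).2.1
      have := congrArg (·.2.1) e1
      simp only [Prod.snd_add, Prod.fst_add, tv3] at this
      revert this
      generalize (q (u + (v + τ • v))).2.1 = a, (q (v + τ • v)).2.1 = b, (q u).2.1 = c, (q (u + v)).2.1 = d,
        (q v).2.1 = e
      revert a b c d e; decide
    by_cases n : ∃ r ∈ η.range, (q r).2.1 = 1
    · obtain ⟨r, r1, r2⟩ := n
      have cK : Nat.card η.ker = 2 * X.card := by
        rw [Nat.card_eq_fintype_card, Fintype.card_subtype, ← Finset.card_filter_add_card_filter_not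
          (fun v => (q v).2.1 = 1), two_mul, Finset.filter_filter, Finset.filter_filter]
        congr 1
        · exact congrArg _ (Finset.filter_congr fun v _ => by rw [mk])
        refine Finset.card_equiv (Equiv.addRight r) fun v => ?_
        simp only [X, Finset.mem_filter, Finset.mem_univ, true_and, Equiv.coe_addRight, ← mk,
          add_mem_cancel_right (rk r1)]
        refine and_congr_right fun h => ?_
        rw [lin v h r r1, r2]
        generalize (q v).2.1 = a; revert a; decide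
      have d : b ∣ 2 ^ k := by rw [← hk, c1, ← c2, cK, cX]; exact ((dvd_mul_left _ _).mul_left _).mul_right _
      have b1 : b = 1 := (Nat.Coprime.pow_right k (Nat.coprime_two_right.2 (Nat.odd_iff.2 bo))).eq_one_of_dvd d
      have := AddSubgroup.card_le_of_le rk
      rw [cK, cX, b1] at c2 this
      omega
    · have d1 : Nat.card η.range ∣ 2 * b := by
        have := Nat.card_congr (QuotientAddGroup.preimageMkEquivAddSubgroupProdSet η.range
          (QuotientAddGroup.mk '' (X : Set M)))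
        rw [Nat.card_prod, show QuotientAddGroup.mk ⁻¹' (QuotientAddGroup.mk '' (X : Set M)) = X from ?_] at this
        · rw [← cX, ← Nat.card_eq_finsetCard]
          exact ⟨_, this⟩
        refine (Set.subset_preimage_image _ _).antisymm' ?_
        rintro v ⟨x, hx, e⟩
        rw [QuotientAddGroup.eq] at e
        simp only [X, Finset.coe_filter, Finset.mem_univ, true_and, Set.mem_setOf_eq, ← mk] at hx ⊢
        rw [← add_neg_cancel_left x v, lin x hx.1 _ e, hx.2]
        refine ⟨add_mem hx.1 (rk e), ?_⟩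
        have : (q (-x + v)).2.1 ≠ 1 := fun k => n ⟨_, e, k⟩
        revert this; generalize (q (-x + v)).2.1 = a; revert a; decide
      have d2 : Nat.card η.range ∣ 2 := (Nat.Coprime.coprime_dvd_left (hk ▸ η.range.card_addSubgroup_dvd_card)
        (Nat.Coprime.pow_left k (Nat.coprime_two_left.2 (Nat.odd_iff.2 bo)))).dvd_of_dvd_mul_right d1
      have := Nat.mul_le_mul c3 (Nat.le_of_dvd two_pos d2)
      omega
  have inj : Function.Injective q := fun x y e => by
    by_cases x0 : q x = 0
    · rw [(q0 x).1 x0, (q0 y).1 (e ▸ x0)]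
    exact Finset.card_le_one.1 ((fib _ x0).le.trans m1) x (by simp) y (by simp [e])
  have z := (q0 0).2 rfl
  by_cases n : u = 0 ∨ v = 0 ∨ u = v
  · rcases n with rfl | rfl | rfl
    · rw [zero_add, z, zero_add]
    · rw [add_zero, z, add_zero]
    · rw [h2, z, (by decide : ∀ w : W3, w + w = 0)]
  push Not at n
  obtain ⟨c, f1, f2, f3, f4, f5⟩ := tv_exists
    (q u) (q v) (fun e => n.1 ((q0 _).1 e)) (fun e => n.2.1 ((q0 _).1 e)) (inj.ne n.2.2)
  obtain ⟨g, hg⟩ := full (fun x => x + (c.1 * x.1 + c.2.1 * x.2.1 + c.2.2 * x.2.2) • q u) f1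
    ((injective_iff_map_eq_zero (AddMonoidHom.mk' _ f1)).2 f2)
  have := hg (u + v)
  rw [smul_add, inj ((hg u).trans f3), inj ((hg v).trans f4)] at this
  rcases f5 _ this.symm with e | e | e | e
  · exact absurd (by rw [← add_left_cancel_iff (a := u), h2, (q0 _).1 e]) n.2.2
  · exact absurd (by simpa using inj e) n.2.1
  · exact absurd (by simpa using inj e) n.1
  · exact e

end Cfsg.Lib.Pyr
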