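import Cfsg.Agent.Lib.Pyr.A
import Cfsg.Agent.Lib.Pyr.B
import Cfsg.Agent.Lib.Ab.Walter
import Cfsg.Agent.S3776

/-! Groups whose involutions form, with `1`, a subgroup `W`: the centralizer of `W`. -/

set_option autoImplicit false

namespace Cfsg.Lib.Pyr

open Subgroup Module Cfsg.Lib.BG
open scoped Cfsg.Lib.Transfer commutatorElement

variable {G : Type*} [Group G] [Finite G] {W S : Subgroup G}

/-- The involutions are conjugate and form a subgroup with `1`. -/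
structure Hyp (W : Subgroup G) : Prop where
  mem : ∀ x, x ∈ W ↔ x * x = 1
  tr : ∀ x ∈ W, x ≠ 1 → ∀ y ∈ W, y ≠ 1 → ∃ g, g * x * g⁻¹ = y

theorem sol_of_syl {M : Subgroup G} (h : Syl 2 S M) (hn : M ≤ 𝐍(S)) : Group.IsSolvable M := by
  obtain ⟨B, sd, hB⟩ := h.exists_compl hn
  rw [← sd.sup, sup_comm]
  exact Core.isSolvable_sup sd.norm (Agent.S0205.result (GW.pi_odd_iff.1 hB.pi)) (pgroup_sol h.pgroup)

omit [Finite G] in
theorem pz {p k : ℕ} {x : G} (h : x ^ p ^ k = 1) : IsPGroup p (zpowers x) := by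
  rintro ⟨_, i, rfl⟩
  exact ⟨k, Subtype.ext (by
    change (x ^ i) ^ p ^ k = 1
    rw [← zpow_natCast, ← zpow_mul, mul_comm, zpow_mul, zpow_natCast, h, one_zpow])⟩

theorem exists_inv_pow {x : G} (h : Even (orderOf x)) : ∃ t ∈ zpowers x, t ≠ 1 ∧ t * t = 1 := by
  obtain ⟨t, h1, h2⟩ := Inv.exists_involution_mem_of_even (H := zpowers x) (by rwa [Nat.card_zpowers])
  exact ⟨t, h1, (Ab.ord_two_iff.1 h2).2, (Ab.ord_two_iff.1 h2).1⟩

namespace Hyp

variable (h : Hyp W)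
include h

omit [Finite G] in
theorem normal : W.Normal := ⟨fun x hx g => (h.mem _).2 (by
  rw [show g * x * g⁻¹ * (g * x * g⁻¹) = g * (x * x) * g⁻¹ by group, (h.mem x).1 hx]; group)⟩

omit [Finite G] in
theorem comm {x y : G} (hx : x ∈ W) (hy : y ∈ W) : x * y = y * x := by
  rw [← inv_eq_of_mul_eq_one_right ((h.mem _).1 (mul_mem hx hy)), mul_inv_rev,
    inv_eq_of_mul_eq_one_right ((h.mem _).1 hx), inv_eq_of_mul_eq_one_right ((h.mem _).1 hy)]

omit [Finite G] in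
theorem elem : IsElementaryAbelian 2 W :=
  ⟨⟨⟨fun x y => Subtype.ext (h.comm x.2 y.2)⟩⟩, fun x hx => by rw [sq, (h.mem x).1 hx]⟩

omit [Finite G] in
theorem pgroup : IsPGroup 2 W := fun x => ⟨1, Subtype.ext (h.elem.2 x x.2)⟩

theorem le_syl (hS : Syl 2 S 𝐂(W)) : W ≤ S := by
  have := h.normal
  exact hS.ge_of_norm_p (fun x hx y hy => h.comm hy hx) h.pgroup le_normalizer_of_normal

theorem frattini (hS : Syl 2 S 𝐂(W)) (g : G) : ∃ n ∈ 𝐍(S), ∀ w ∈ W, n * w * n⁻¹ = g * w * g⁻¹ := by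
  have := h.normal
  have e := hS.frattini (M := ⊤) (Nml.top_iff.2 inferInstance)
  obtain ⟨n, hn, c, hc, rfl⟩ := (mem_sup_right_norm (N := 𝐂(W)) le_normalizer_of_normal).1
    ((sup_comm _ _).trans e ▸ mem_top g)
  exact ⟨n, hn.2, fun w hw => by rw [mul_assoc n c, ← hc w hw]; group⟩

theorem syl (hp : (Nat.card W - 1).Prime) (hS : Syl 2 S 𝐂(W)) :
    IsMulCommutative S ∨ (⁅S, S⁆ ≤ W ∧ ∀ x ∈ S, x * x ∈ W) := by
  have := h.normal
  have le := h.le_syl hS
  refine or_iff_not_imp_left.2 fun hna => ?_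
  let Ω := {x : G // x ∈ W ∧ x ≠ 1}
  letI : MulAction 𝐍(S) Ω :=
    { smul := fun g x => ⟨g * x.1 * g⁻¹, this.conj_mem _ x.2.1 _, by simpa using x.2.2⟩
      one_smul := fun x => Subtype.ext (by change 1 * x.1 * 1⁻¹ = _; simp)
      mul_smul := fun g k x => Subtype.ext (by
        change (g : G) * k * x.1 * ((g : G) * k)⁻¹ = g * (k * x.1 * (k : G)⁻¹) * (g : G)⁻¹; group) }
  have cΩ : Nat.card Ω = (Nat.card W - 1) ^ 1 := by
    rw [pow_one, ← SetLike.coe_sort_coe, Nat.card_coe_set_eq, ← Set.ncard_diff_singleton_of_mem (one_mem W)]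
    rfl
  haveI : MulAction.IsPretransitive 𝐍(S) Ω := ⟨fun x y => by
    obtain ⟨g, hg⟩ := h.tr x x.2.1 x.2.2 y y.2.1 y.2.2
    obtain ⟨n, hn, e⟩ := h.frattini hS g
    exact ⟨⟨n, hn⟩, Subtype.ext ((e _ x.2.1).trans hg)⟩⟩
  haveI := Fact.mk hp
  obtain ⟨P⟩ : Nonempty (Sylow (Nat.card W - 1) 𝐍(S)) := inferInstance
  have tP := Perm.sylow_isPretransitive cΩ P
  have m : ∀ x : S, x ≠ 1 → x ^ 2 = 1 → (x : G) ∈ W ∧ (x : G) ≠ 1 := fun x h1 h2 =>
    ⟨(h.mem _).2 (by rw [← sq]; exact congrArg Subtype.val h2), by simpa using h1⟩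
  have : Nontrivial Ω := Finite.one_lt_card_iff_nontrivial.1 (by rw [cΩ, pow_one]; exact hp.one_lt)
  obtain ⟨x, y, hxy⟩ := exists_pair_ne Ω
  obtain ⟨e1, e2, e3⟩ := Agent.S3776.result hS.pgroup hna ⟨⟨x, le x.2.1⟩, ⟨y, le y.2.1⟩,
      fun e => hxy (Subtype.ext (Subtype.mk.inj e)), by simpa using x.2.2,
      Subtype.ext (h.elem.2 _ x.2.1), by simpa using y.2.2, Subtype.ext (h.elem.2 _ y.2.1)⟩
    ⟨P.1.map S.normalizerMonoidHom, pgroup_sol (P.2.map _), fun x y x1 x2 y1 y2 => by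
      obtain ⟨g, hg⟩ := tP.exists_smul_eq ⟨x, m x x1 x2⟩ ⟨y, m y y1 y2⟩
      exact ⟨_, mem_map_of_mem _ g.2, Subtype.ext (Subtype.mk.inj hg)⟩⟩
  have z : ∀ x : S, x ∈ center S → (x : G) ∈ W := fun x hx =>
    (h.mem _).2 (by rw [← sq]; exact congrArg Subtype.val ((e3 x).1 hx))
  refine ⟨?_, fun x hx => z (⟨x, hx⟩ * ⟨x, hx⟩) ?_⟩
  · rw [← map_subtype_commutator, e1, e2]
    rintro _ ⟨x, hx, rfl⟩
    exact z x hx
  · rw [← e2, ← sq]
    exact PGroup.pow_mem_frattini hS.pgroup _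

theorem no_comp (h4 : 3 ≤ Nat.card W) (hS : Syl 2 S 𝐂(W)) (hc : ⁅S, S⁆ ≤ W) {L : Subgroup G}
    (hL : IsComponent L) : False := by
  have := h.normal
  have LC : ∀ {L : Subgroup G}, IsComponent L → L ≤ 𝐂(W) := fun hL =>
    commutator_eq_bot_iff_le_centralizer.1 (Comp.isComponent_commutator_eq_bot_of_solvable hL
      (pgroup_sol h.pgroup) le_normalizer_of_normal)
  have dW : ∀ P : Subgroup G, IsPGroup 2 P → P ≤ 𝐂(W) → ⁅P, P⁆ ≤ W := fun P h1 h2 => by
    obtain ⟨g, -, hg⟩ := hS.exists_le_conj h1 h2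
    refine (commutator_mono hg hg).trans ?_
    rw [← map_commutator]
    rintro _ ⟨x, hx, rfl⟩
    exact this.conj_mem x (hc hx) g
  -- central 2-elements of `L` lie in `W`
  have zW : ∀ z : L, z ∈ center L → IsPGroup 2 (zpowers z) → (z : G) ∈ W := fun z h1 h2 => by
    obtain ⟨P, hP⟩ := h2.exists_le_sylow
    have := Transfer.center_inf_commutator_inf_sylow_le P
      ⟨⟨h1, hL.2.1.commutator_eq_top ▸ mem_top z⟩, hP (mem_zpowers z)⟩
    refine dW (P.1.map L.subtype) (P.2.map _) ((map_subtype_le _).trans (LC hL)) ?_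
    rw [← map_commutator]
    exact mem_map_of_mem _ this
  haveI := hL.2.2
  have hna := Comp.isQuasisimple_quotient_center_not_isMulCommutative hL.2
  let f := QuotientGroup.mk' (center L)
  obtain ⟨P⟩ : Nonempty (Sylow 2 L) := inferInstance
  have sP : Syl 2 (P.1.map f) ⊤ := by
    simpa [← MonoidHom.range_eq_map, f] using (Syl.of_sylow_top P).map f
  have hA : JR.Ab2 (L ⧸ center L) := by
    obtain ⟨T, hT⟩ := Syl.top_iff_sylow.1 sP
    refine JR.ab2_of_sylow T (hT ▸ abelian_iff_der.2 ?_)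
    rw [← map_commutator, Subgroup.map_eq_bot_iff, QuotientGroup.ker_mk']
    intro x hx
    refine mem_center_iff.2 fun y => Subtype.ext (LC hL y.2 x (dW (P.1.map L.subtype) (P.2.map _)
      ((map_subtype_le _).trans (LC hL)) ?_)).symm
    rw [← map_commutator]
    exact mem_map_of_mem _ hx
  have kn := (JR.walter_aux _ _ rfl hna hA).kn hna hA
  obtain ⟨y, hy⟩ := kn.sing _ sP
  obtain ⟨_, ⟨x, hx, rfl⟩, x1⟩ := (bot_or_exists_ne_one (P.1.map f)).resolve_left fun e => by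
    have := kn.ge _ sP
    rw [e, card_bot] at this
    omega
  have x2 := kn.sq _ sP _ (mem_map_of_mem f hx)
  have px : IsPGroup 2 (zpowers x) := P.2.to_le (zpowers_le.2 hx)
  have xz : (x : G) ∉ 𝐂(L) := fun k => x1 ((QuotientGroup.eq_one_iff _).2
    (mem_center_iff.2 fun y => Subtype.ext (k y y.2)))
  have w1 : (x : G) * x ∈ W := zW (x * x) ((QuotientGroup.eq_one_iff _).1 x2)
    (px.to_le (zpowers_le.2 (mul_mem (mem_zpowers x) (mem_zpowers x))))
  have WL : W ≤ 𝐂(L) := le_centralizer_iff.1 (LC hL)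
  have w2 : (x : G) * x ≠ 1 := fun e => xz (WL ((h.mem _).2 e))
  have key : ∀ g : G, g * (x * x) * g⁻¹ ≠ x * x → g * x * g⁻¹ ∈ 𝐂(L) := fun g hg => by
    refine commutator_eq_bot_iff_le_centralizer.1 (Comp.isComponent_commutator_eq_bot_of_ne
      (Comp.isComponent_map_conj hL g) hL fun e => hg ?_) (mem_map_of_mem _ x.2)
    let x' : L := ⟨g * x * g⁻¹, e.le (mem_map_of_mem _ x.2)⟩
    have e2 : (x' : G) * x' = g * (x * x) * g⁻¹ := by simp only [x']; group
    obtain ⟨k, hk⟩ := hy.exists_conj sP (Ab.ord_two_iff.2 ⟨x2, x1⟩) (s := f x') (Ab.ord_two_iff.2 ⟨by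
      rw [← map_mul]
      exact (QuotientGroup.eq_one_iff _).2 (mem_center_iff.2 fun y => Subtype.ext
        (WL (by rw [coe_mul, e2]; exact Normal.conj_mem ‹_› _ w1 g) y y.2)), fun k => xz fun y hy => by
      have := congrArg Subtype.val (mem_center_iff.1 ((QuotientGroup.eq_one_iff _).1 k)
        ⟨g * y * g⁻¹, e.le (mem_map_of_mem _ hy)⟩)
      simpa [x'] using this⟩)
    obtain ⟨k, rfl⟩ := QuotientGroup.mk'_surjective _ k
    rw [← map_inv, ← map_mul, ← map_mul, QuotientGroup.mk'_eq_mk'] at hk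
    obtain ⟨z, z1, z2⟩ := hk
    have cz : ∀ y, Commute y z := mem_center_iff.1 z1
    have z3 : (z : G) ∈ W := zW z z1 (by
      obtain ⟨i, hi⟩ := px ⟨x, mem_zpowers x⟩
      replace hi : x ^ 2 ^ i = 1 := congrArg Subtype.val hi
      have a1 : x' ^ 2 ^ i = 1 := Subtype.ext (by
        simp only [x', SubmonoidClass.mk_pow, conj_pow, ← coe_pow, hi]; simp)
      rw [← z2, (cz _).mul_pow, conj_pow, hi] at a1
      exact pz (by simpa using a1))
    rw [← e2, ← coe_mul, ← z2, mul_assoc _ z, ← mul_assoc z, ← (cz _).eq, mul_assoc _ z, ← mul_assoc,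
      show z * z = 1 from Subtype.ext ((h.mem _).1 z3), mul_one, conj_mul, coe_mul, coe_mul, coe_mul,
      WL w1 k k.2]
    simp
  obtain ⟨w, w3, w4, w5⟩ : ∃ w ∈ W, w ≠ 1 ∧ w ≠ x * x := by
    by_contra! k
    have : (W : Set G) ⊆ {1, (x : G) * x} := fun w hw => by
      by_cases e : w = 1
      exacts [Or.inl e, Or.inr (k w hw e)]
    have := (Set.ncard_le_ncard this).trans (Set.ncard_insert_le _ _)
    rw [Set.ncard_singleton, ← Nat.card_coe_set_eq, SetLike.coe_sort_coe] at this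
    omega
  obtain ⟨g, hg⟩ := h.tr _ w1 w2 w w3 w4
  obtain ⟨k, hk⟩ := h.tr _ w1 w2 (x * x * w) (mul_mem w1 w3) fun e => w5 (by
    rw [← inv_eq_of_mul_eq_one_right e, inv_eq_of_mul_eq_one_right ((h.mem _).1 w1)])
  have a1 := key g (hg ▸ w5)
  have a2 := key k (by rw [hk]; simpa using w4)
  have a3 := key (g⁻¹ * k) (by
    rw [mul_inv_rev, inv_inv, mul_assoc g⁻¹, mul_assoc g⁻¹, ← mul_assoc (k * _), hk, ← mul_assoc, Ne,
      mul_assoc g⁻¹, inv_mul_eq_iff_eq_mul, ← eq_mul_inv_iff_mul_eq, hg]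
    simpa using w2)
  have c1 : Commute (x : G) (g * x * g⁻¹) := a1 x x.2
  have c2 : Commute (x : G) (k * x * k⁻¹) := a2 x x.2
  have c3 : Commute (g * x * g⁻¹) (k * x * k⁻¹) := by
    simpa [mul_assoc] using Commute.map (a3 x x.2) (MulAut.conj g)
  have : x * (g * x * g⁻¹) * (k * x * k⁻¹) ∈ W := (h.mem _).2 (by
    rw [← sq, (c2.mul_left c3).mul_pow, c1.mul_pow, conj_pow, conj_pow, sq, hg, hk]
    exact (h.mem _).1 (mul_mem w1 w3))
  exact xz ((mul_mem_cancel_right a1).1 ((mul_mem_cancel_right a2).1 (WL this)))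

theorem cent_sol (h4 : 3 ≤ Nat.card W) (hO : pPrimeCore 2 G = ⊥) (hS : Syl 2 S 𝐂(W)) (hc : ⁅S, S⁆ ≤ W) :
    Group.IsSolvable 𝐂(W) := by
  have := h.normal
  have cQ := (Comp.centralizer_pCore_le_iff_layer (p := 2)).2
    ⟨Comp.layer_eq_bot_iff.2 fun L => h.no_comp h4 hS hc, hO⟩
  have QC : pCore 2 G ≤ 𝐂(W) := le_centralizer_iff.1 (Core.IsMinNormal.le_centralizer_pCore
    ⟨this, fun e => by rw [e, card_bot] at h4; omega, fun K hK le => or_iff_not_imp_left.2 fun e =>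
      le.antisymm fun w hw => by
        obtain ⟨x, x1, x2⟩ := (bot_or_exists_ne_one K).resolve_left e
        by_cases w1 : w = 1
        · rw [w1]; exact one_mem K
        obtain ⟨g, rfl⟩ := h.tr x (le x1) x2 w hw w1
        exact hK.conj_mem x x1 g⟩ 2)
  have QS := hS.ge_of_norm_p QC (Core.pCore_isPGroup 2 G) le_normalizer_of_normal
  let f := QuotientGroup.mk' W
  haveI := Normal.map (inferInstance : (pCore 2 G).Normal) f (QuotientGroup.mk'_surjective W)
  have le : 𝐂(W) ⊓ (𝐂((pCore 2 G).map f)).comap f ≤ pCore 2 G := Core.le_pCore inferInstance fun g => by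
    obtain ⟨k, hk⟩ := Core.pCore_isPGroup 2 G ⟨g * g, cQ fun x hx => by
      obtain ⟨w, w1, w2⟩ := (QuotientGroup.mk'_eq_mk' W).1 (g.2.2 _ (mem_map_of_mem f hx))
      change x * g * w = g * x at w2
      rw [mul_assoc (g : G), ← w2, ← mul_assoc (g : G), ← mul_assoc (g : G), ← w2, mul_assoc _ w, g.2.1 w w1,
        ← mul_assoc _ _ w, mul_assoc _ w w, (h.mem w).1 w1, mul_one, mul_assoc]⟩
    exact ⟨k + 1, Subtype.ext (by
      rw [pow_succ', pow_mul, sq]; exact (congrArg Subtype.val hk :))⟩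
  have e : S = pCore 2 G := le_antisymm (le_trans (le_inf hS.le fun s hs => by
    rintro _ ⟨x, hx, rfl⟩
    rw [← map_mul, ← map_mul, ← mul_inv_eq_one, ← map_inv, ← map_mul]
    exact (QuotientGroup.eq_one_iff _).2 (hc (by
      simpa [commutatorElement_def, mul_assoc] using commutator_mem_commutator (QS hx) hs))) le) QS
  exact sol_of_syl hS (e ▸ le_normalizer_of_normal)

end Hyp

end Cfsg.Lib.Pyr
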