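import Cfsg.Agent.Lib.Pyr.C
import Cfsg.Agent.S4179

/-! Groups whose involutions form, with `1`, a subgroup `W` with `|W| - 1` prime are solvable. -/

set_option autoImplicit false

namespace Cfsg.Lib.Pyr

open Subgroup Module Cfsg.Lib.BG
open scoped Cfsg.Lib.Transfer commutatorElement

variable {G : Type*} [Group G] [Finite G] {W S : Subgroup G} {M : Type*} [AddCommGroup M]
  [Module (ZMod 2) M]

theorem no_fpf [S.Normal] (hm : ∀ x, x * x = 1 → x ∈ W) (c : Ch 2 W M) (hS : Syl 2 S 𝐂(W))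
    {A : Subgroup (M ≃ₗ[ZMod 2] M)} (hA : ∀ a ∈ A, a * a = 1 → a = 1) (hf : ∀ u, (∀ a ∈ A, a u = u) → u = 0)
    (hr : A ≤ c.ρ.range) {τ : G} (h1 : c.ρ τ ∈ 𝐍(A)) (h2 : c.ρ τ * c.ρ τ = 1) : c.ρ τ = 1 := by
  have : Finite c.ρ.range := .of_surjective _ c.ρ.rangeRestrict_surjective
  have : Finite A := .of_injective _ (inclusion_injective hr)
  have oA : Odd (Nat.card A) := Nat.not_even_iff_odd.1 fun e => by
    obtain ⟨t, ht⟩ := Inv.exists_involution_of_even e
    exact (Ab.ord_two_iff.1 ht).2 (Subtype.ext (hA _ t.2 (congrArg Subtype.val (Ab.ord_two_iff.1 ht).1)))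
  have le : 𝐂(W) ≤ A.comap c.ρ := c.ker ▸ ker_le_comap _ _
  have s : Syl 2 S (A.comap c.ρ) := hS.trans_idx le (by
    rw [← c.ker, relIndex_ker, map_comap_eq_self hr]
    rintro p - hp rfl
    exact (Nat.not_even_iff_odd.2 oA) (even_iff_two_dvd.2 hp))
  obtain ⟨B, sd, hB⟩ := s.exists_compl le_normalizer_of_normal
  have fr := hB.frattini (sol_of_syl s le_normalizer_of_normal) (M := 𝐍(A.comap c.ρ)) ⟨le_normalizer, le_rfl⟩
  obtain ⟨a, ha, y, hy, rfl⟩ := (mem_sup_left_norm inf_le_left).1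
    (fr.ge (le_normalizer_comap c.ρ h1))
  rcases Nat.even_or_odd (orderOf y) with e | e
  · obtain ⟨t, t1, t2, t3⟩ := exists_inv_pow e
    obtain ⟨u, rfl⟩ := (c.mem_iff t).1 (hm t t3)
    have tB : c.e u ∈ 𝐍(B) := zpowers_le.2 hy.2 t1
    have WS : c.e u ∈ S := hS.ge_of_norm_p' (Q := zpowers (c.e u)) (zpowers_le.2 fun x hx => by
      obtain ⟨v, rfl⟩ := (c.mem_iff x).1 hx
      rw [← c.map_add, ← c.map_add, add_comm]) (pz (k := 1) (by rwa [pow_one, sq])) le_normalizer_of_normal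
      (mem_zpowers _)
    refine absurd (c.eq_one.2 (hf u fun b hb => ?_)) t2
    obtain ⟨g, rfl⟩ := hr hb
    obtain ⟨x, hx, z, hz, rfl⟩ := (mem_sup_left_norm sd.norm).1 (sd.sup.ge hb)
    have : z * c.e u * z⁻¹ * (c.e u)⁻¹ ∈ S ⊓ B := mem_inf.2 ⟨mul_mem (Normal.conj_mem ‹_› _ WS z) (inv_mem WS), by
      rw [mul_assoc, mul_assoc, ← mul_assoc (c.e u)]
      exact mul_mem hz ((mem_normalizer_iff.1 tB _).1 (inv_mem hz))⟩
    rw [sd.inf, mem_bot, mul_inv_eq_one, mul_inv_eq_iff_eq_mul] at this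
    rw [map_mul, LinearEquiv.mul_apply, c.fix_iff.2 this, c.fix_iff.2 (hS.le hx _ (c.mem u)).symm]
  · refine hA _ ?_ h2
    rw [map_mul] at h1 h2 ⊢
    refine mul_mem ha ?_
    have k : c.ρ y * c.ρ y ∈ A := by
      rw [show c.ρ y * c.ρ y = (c.ρ a)⁻¹ * ((c.ρ a * c.ρ y) * (c.ρ a)⁻¹ * (c.ρ a * c.ρ y)⁻¹) *
        (c.ρ a * c.ρ y * (c.ρ a * c.ρ y)) by group, h2, mul_one]
      exact mul_mem (inv_mem ha) ((mem_normalizer_iff.1 h1 _).1 (inv_mem ha))
    obtain ⟨j, hj⟩ := e
    have := congrArg c.ρ (pow_orderOf_eq_one y)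
    rw [hj, pow_succ, map_mul, map_pow, pow_mul, sq, map_one] at this
    rw [eq_inv_of_mul_eq_one_right this]
    exact inv_mem (pow_mem k j)

theorem exists_ne_gf {n : ℕ} (hn : 2 ≤ n) : ∃ x : (GaloisField 2 n)ˣ, x ≠ 1 := by
  have : Nontrivial (GaloisField 2 n)ˣ := Finite.one_lt_card_iff_nontrivial.1 (by
    rw [Nat.card_units, GaloisField.card 2 n (by omega)]
    have := Nat.pow_le_pow_right two_pos hn
    omega)
  exact exists_ne 1

theorem not_ge_four [S.Normal] [Finite M] (hm : ∀ x, x * x = 1 → x ∈ W) (c : Ch 2 W M) (hS : Syl 2 S 𝐂(W))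
    (hs : Function.Surjective c.ρ) (h4 : 4 ≤ finrank (ZMod 2) M) : False := by
  let F := GaloisField 2 2
  let K := GaloisField 2 (finrank (ZMod 2) M - 2)
  let φ : (F × K) ≃ₗ[ZMod 2] M := LinearEquiv.ofFinrankEq _ _ (by
    rw [finrank_prod, GaloisField.finrank 2 (by omega), GaloisField.finrank 2 (by omega)]; omega)
  let c' := c.congr φ
  have hs' : Function.Surjective c'.ρ := fun e => by
    obtain ⟨g, hg⟩ := hs (φ.symm.trans (e.trans φ))
    exact ⟨g, LinearEquiv.ext fun u => by simp [c', Ch.congr, hg]⟩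
  let ψ : Fˣ × Kˣ →* ((F × K) ≃ₗ[ZMod 2] (F × K)) :=
    { toFun := fun a => (DistribMulAction.toLinearEquiv (ZMod 2) F a.1).prodCongr
        (DistribMulAction.toLinearEquiv (ZMod 2) K a.2)
      map_one' := LinearEquiv.ext fun u => by simp
      map_mul' := fun a b => LinearEquiv.ext fun u => by simp [mul_smul] }
  have hψ : ∀ a u, ψ a u = ((a.1 : F) * u.1, (a.2 : K) * u.2) := fun _ _ => rfl
  have f4 : ∀ x : F, (x ^ 2) ^ 2 = x := fun x => by
    have := Fintype.ofFinite F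
    rw [← pow_mul, show 2 * 2 = Fintype.card F by
      rw [← Nat.card_eq_fintype_card, GaloisField.card 2 2 two_ne_zero]; rfl, FiniteField.pow_card]
  let τ : (F × K) ≃ₗ[ZMod 2] (F × K) := (LinearEquiv.ofInvolutive
    ((frobenius F 2).toAddMonoidHom.toZModLinearMap 2) f4).prodCongr (LinearEquiv.refl _ _)
  have hτ : ∀ u, τ u = (u.1 ^ 2, u.2) := fun _ => rfl
  have t2 : τ * τ = 1 := LinearEquiv.ext fun u => by rw [LinearEquiv.mul_apply, hτ, hτ, f4]; rfl
  obtain ⟨g, hg⟩ := hs' τ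
  obtain ⟨α, hα⟩ := exists_ne_gf (n := 2) le_rfl
  obtain ⟨κ, hκ⟩ := exists_ne_gf (n := finrank (ZMod 2) M - 2) (by omega)
  have cj : ∀ a ∈ ψ.range, τ * a * τ ∈ ψ.range := by
    rintro _ ⟨a, rfl⟩
    exact ⟨(a.1 ^ 2, a.2), LinearEquiv.ext fun u => by
      rw [LinearEquiv.mul_apply, LinearEquiv.mul_apply, hτ, hψ, hψ, hτ, mul_pow, f4, Units.val_pow_eq_pow_val]⟩
  have := no_fpf hm c' hS (A := ψ.range) (by
      rintro _ ⟨a, rfl⟩ e
      have := LinearEquiv.congr_fun e (1, 1)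
      rw [LinearEquiv.mul_apply, hψ, hψ] at this
      simp only [mul_one, LinearEquiv.coe_one, id, Prod.mk.injEq, mul_self_eq_one_iff, CharTwo.neg_eq,
        or_self, Units.val_eq_one] at this
      rw [show a = 1 from Prod.ext this.1 this.2, map_one])
    (fun u hu => by
      have := hu _ ⟨(α, κ), rfl⟩
      rw [hψ, Prod.ext_iff] at this
      exact Prod.ext (by_contra fun n => hα (Units.val_eq_one.1 ((mul_eq_right₀ n).1 this.1)))
        (by_contra fun n => hκ (Units.val_eq_one.1 ((mul_eq_right₀ n).1 this.2))))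
    (by rw [MonoidHom.range_eq_top.2 hs']; exact le_top) (τ := g) (by
      rw [hg, mem_normalizer_iff, inv_eq_of_mul_eq_one_right t2]
      exact fun a => ⟨cj a, fun k => by
        have := cj _ k
        rwa [← mul_assoc, ← mul_assoc, t2, one_mul, mul_assoc, t2, mul_one] at this⟩) (by rw [hg, t2])
  have := congrArg Prod.fst (LinearEquiv.congr_fun (hg.symm.trans this) (α, 0))
  rw [hτ, sq] at this
  exact hα (Units.val_eq_one.1 ((mul_eq_right₀ α.ne_zero).1 this))

theorem faith_of_odd {Γ N : Type*} [Group Γ] [AddCommGroup N] [DistribMulAction Γ N] {k m : ℕ}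
    (hk : ∀ x : N, 2 ^ k • x = 0) {g : Γ} (h1 : ∀ x : N, 2 • x = 0 → g • x = x) (hm : Odd m)
    (h2 : ∀ x : N, g ^ m • x = x) (x : N) : g • x = x := by
  suffices H : ∀ j : ℕ, ∀ x : N, 2 ^ j • x = 0 → g • x = x from H k x (hk x)
  intro j
  induction j with
  | zero => intro x hx; rw [pow_zero, one_smul] at hx; rw [hx, smul_zero]
  | succ j ih =>
    intro x hx
    have d : 2 • (g • x - x) = 0 := by
      rw [smul_sub, smul_comm, ih _ (by rwa [smul_smul, ← pow_succ]), sub_self]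
    have e : ∀ i : ℕ, g ^ i • x = x + i • (g • x - x) := fun i => by
      induction i with
      | zero => simp
      | succ i ih => rw [pow_succ', mul_smul, ih, smul_add, smul_comm g, h1 _ d, succ_nsmul]; abel
    obtain ⟨i, rfl⟩ := hm
    have := e (2 * i + 1)
    rwa [h2, left_eq_add, succ_nsmul, mul_comm, mul_smul, d, smul_zero, zero_add, sub_eq_zero] at this

theorem not_three [S.Normal] (hm : ∀ x, x ∈ W ↔ x * x = 1) (c : Ch 2 W W3) (hS : Syl 2 S 𝐂(W))
    (hs : Function.Surjective c.ρ) (hWS : W ≤ S)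
    (h : IsMulCommutative S ∨ (⁅S, S⁆ ≤ W ∧ ∀ x ∈ S, x * x ∈ W)) : False := by
  have full : ∀ f : W3 → W3, (∀ u v, f (u + v) = f u + f v) → Function.Injective f →
      ∃ g : G, ∀ u, c.ρ g u = f u := fun f h1 h2 =>
    (hs (LinearEquiv.ofBijective ((AddMonoidHom.mk' f h1).toZModLinearMap 2)
      (Finite.injective_iff_bijective.1 h2))).imp fun g hg u => by rw [hg]; rfl
  obtain ⟨σ, hσ, σ4⟩ : ∃ σ : G, (∀ u, c.ρ σ u = sg3 u) ∧ σ * σ * (σ * σ) ∈ S := by
    obtain ⟨g, hg⟩ := full sg3 (by decide) (by decide)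
    obtain ⟨k, m, ⟨j, hj⟩, e⟩ := Nat.exists_eq_two_pow_mul_odd (orderOf_pos g).ne'
    have g4 : c.ρ g ^ 4 = 1 := LinearEquiv.ext fun u => by
      simp only [pow_succ, pow_zero, one_mul, LinearEquiv.mul_apply, hg]; revert u; decide
    have e1 : c.ρ (g ^ (m * m)) = c.ρ g := by
      rw [map_pow, show m * m = 4 * (j * j + j) + 1 by rw [hj]; ring, pow_succ, pow_mul, g4, one_pow, one_mul]
    refine ⟨g ^ (m * m), by rwa [e1], hS.ge_of_norm_p' (zpowers_le.2 ?_) (pz (k := k) ?_)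
      le_normalizer_of_normal (mem_zpowers _)⟩
    · rw [← c.ker, MonoidHom.mem_ker, map_mul, map_mul, e1, ← g4]
      simp only [pow_succ, pow_zero, one_mul, mul_assoc]
    · rw [← pow_add, ← pow_add, ← pow_mul, ← orderOf_dvd_iff_pow_eq_one, e]
      exact ⟨4 * m, by ring⟩
  have nτ : σ * σ ∉ 𝐂(W) := fun k => by
    have := LinearEquiv.congr_fun (c.ker.ge k) (0, 0, 1)
    rw [map_mul, LinearEquiv.mul_apply, hσ, hσ] at this
    exact absurd this (by decide)
  have ab : IsMulCommutative S → False := fun hc => by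
    letI : CommGroup S := { (inferInstance : Group S) with mul_comm := hc.1.1 }
    letI : DistribMulAction G (Additive S) :=
      { smul := fun g m => .ofMul (MulAut.conjNormal g m.toMul)
        one_smul := fun m => by change Additive.ofMul (MulAut.conjNormal 1 m.toMul) = m; simp
        mul_smul := fun g k m => by
          change Additive.ofMul (MulAut.conjNormal (g * k) m.toMul) = _; rw [map_mul]; rfl
        smul_zero := fun g => congrArg Additive.ofMul (map_one _)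
        smul_add := fun g x y => congrArg Additive.ofMul (map_mul _ _ _) }
    have sm : ∀ (g : G) (m m' : Additive S), g • m = m' ↔ g * m.toMul * g⁻¹ = m'.toMul := fun g m m' =>
      Additive.toMul.injective.eq_iff.symm.trans Subtype.ext_iff
    obtain ⟨k, hk⟩ := IsPGroup.iff_card.1 hS.pgroup
    have hk' : ∀ m : Additive S, 2 ^ k • m = 0 := fun m => by rw [← hk]; exact card_nsmul_eq_zero'
    let ι : W3 →+ Additive S := AddMonoidHom.mk' (fun u => .ofMul ⟨c.e u, hWS (c.mem u)⟩) fun u v =>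
      congrArg Additive.ofMul (Subtype.ext (c.map_add u v))
    have hι : ∀ g u, g • ι u = ι (c.ρ g u) := fun g u => (sm _ _ _).2 (c.conj g u).symm
    have inj : Function.Injective ι := fun u v e => c.inj (congrArg (fun m => (m.toMul : G)) e)
    have rng : ∀ m, 2 • m = 0 → ∃ u, ι u = m := fun m e =>
      ((c.mem_iff m.toMul).1 ((hm _).2 (by
        rw [two_nsmul] at e; exact congrArg (fun m => (m.toMul : G)) e))).imp fun u hu =>
        Additive.toMul.injective (Subtype.ext hu)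
    obtain ⟨y, hy⟩ := ab3 (G := G) (M := Additive S) hk' ι inj rng (fun f h1 h2 => (full f h1 h2).imp fun g hg u => by rw [hι, hg])
      (fun g g' e m => by
        have k1 : g'⁻¹ * g ∈ 𝐂(W) := c.ker.le (LinearEquiv.ext fun u => inj (by
          rw [← hι, mul_smul, e, inv_smul_smul]; rfl))
        rw [← inv_smul_eq_iff, ← mul_smul]
        refine faith_of_odd hk' (fun x hx => ?_) (Nat.odd_iff.2 (Nat.two_dvd_ne_zero.1 hS.not_dvd'))
          (fun x => (sm _ _ _).2 ?_) m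
        · obtain ⟨u, rfl⟩ := rng x hx
          rw [mul_smul, e, inv_smul_smul]
        · rw [mul_inv_eq_iff_eq_mul]
          exact congrArg Subtype.val (mul_comm (⟨_, pow_relIndex_mem S k1⟩ : S) x.toMul))
      (σ := σ) (fun u => by rw [hι, hσ]) (s := Additive.ofMul ⟨_, σ4⟩) ((sm _ _ _).2 (by
        change σ * (σ * σ * (σ * σ)) * σ⁻¹ = σ * σ * (σ * σ); group))
    have e : σ * σ * (σ * σ) = y.toMul * (σ * σ * y.toMul * (σ * σ)⁻¹) := congrArg (fun m => (m.toMul : G)) hy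
    have e' : (y.toMul : G) * (σ * σ * y.toMul * (σ * σ)⁻¹) = σ * σ * y.toMul * (σ * σ)⁻¹ * y.toMul :=
      congrArg Subtype.val (mul_comm y.toMul (MulAut.conjNormal (σ * σ) y.toMul))
    refine nτ (hS.le ((mul_mem_cancel_right (inv_mem y.toMul.2)).1 (hWS ((hm _).2 ?_))))
    calc _ = (σ * σ * y.toMul * (σ * σ)⁻¹)⁻¹ * (σ * σ * (σ * σ)) * (y.toMul : G)⁻¹ := by
          generalize σ * σ = τ; group
      _ = 1 := by rw [e, e']; group
  refine ab (h.elim id fun ⟨h1, h2⟩ => ?_)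
  haveI : W.Normal := ⟨fun x hx g => by obtain ⟨u, rfl⟩ := (c.mem_iff x).1 hx; exact c.conj g u ▸ c.mem _⟩
  let f := QuotientGroup.mk' W
  haveI := Normal.map (inferInstance : S.Normal) f (QuotientGroup.mk'_surjective W)
  have cm : ∀ x ∈ S, ∀ y ∈ S, x⁻¹ * y * x * y⁻¹ ∈ W := fun x hx y hy => h1 (by
    simpa [commutatorElement_def] using commutator_mem_commutator (inv_mem hx) hy)
  obtain ⟨d, ⟨c'⟩⟩ := exists_ch (p := 2) (V := S.map f) ⟨abelian_iff_der.2 (by
    rw [← map_commutator, Subgroup.map_eq_bot_iff, QuotientGroup.ker_mk']; exact h1), by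
      rintro _ ⟨x, hx, rfl⟩
      rw [← map_pow, sq]
      exact (QuotientGroup.eq_one_iff _).2 (h2 x hx)⟩
  letI : DistribMulAction G (Fin d → ZMod 2) := DistribMulAction.compHom _ (c'.ρ.comp f)
  have lift : ∀ v, ∃ x ∈ S, f x = c'.e v := fun v => c'.mem v
  have ex : ∀ v, ∃ u, ∀ x ∈ S, f x = c'.e v → c.e u = x * x := fun v => by
    obtain ⟨x, hx, e⟩ := lift v
    obtain ⟨u, hu⟩ := (c.mem_iff _).1 (h2 x hx)
    refine ⟨u, fun y hy e' => ?_⟩
    obtain ⟨w, w1, rfl⟩ := (QuotientGroup.mk'_eq_mk' W).1 (e.trans e'.symm)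
    rw [hu, mul_assoc x w, ← mul_assoc w, hS.le hx w w1, mul_assoc x w, (hm w).1 w1, mul_one]
  choose q hq using ex
  have qg : ∀ g v, q (g • v) = c.ρ g (q v) := fun g v => by
    obtain ⟨x, hx, e⟩ := lift v
    refine c.inj ?_
    rw [c.conj, hq v x hx e, hq _ (g * x * g⁻¹) (Normal.conj_mem ‹_› x hx g) (by
      rw [map_mul, map_mul, map_inv, e, ← c'.conj]; rfl), conj_mul]
  have add := suz3 (G := G) (k := d) (by simp) (fun v => funext fun i => CharTwo.add_self_eq_zero _) q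
    (fun v => by
      obtain ⟨x, hx, e⟩ := lift v
      rw [← c.eq_one, hq v x hx e, ← hm, ← c'.eq_one, ← e]
      exact (QuotientGroup.eq_one_iff _).symm)
    (fun u v v' => by
      obtain ⟨x, hx, e⟩ := lift u
      have key : ∀ y ∈ S, ∀ v, f y = c'.e v → ∀ D, c.e D = x⁻¹ * y * x * y⁻¹ → q (u + v) = q u + D + q v :=
        fun y hy v e' D hD => c.inj (by
          rw [c.map_add, c.map_add, hD, hq u x hx e, hq v y hy e', hq _ (x * y) (mul_mem hx hy)
            (by rw [map_mul, e, e', c'.map_add])]; group)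
      obtain ⟨y, hy, e1⟩ := lift v
      obtain ⟨y', hy', e2⟩ := lift v'
      obtain ⟨D, hD⟩ := (c.mem_iff _).1 (cm x hx y hy)
      obtain ⟨D', hD'⟩ := (c.mem_iff _).1 (cm x hx y' hy')
      rw [key y hy v e1 D hD, key y' hy' v' e2 D' hD', key (y * y') (mul_mem hy hy') (v + v')
        (by rw [map_mul, e1, e2, c'.map_add]) (D + D') (by
          rw [c.map_add, hD, mul_assoc _ y⁻¹, ← hS.le (inv_mem hy) _ (c.mem D'), hD']; group)]
      have z : ∀ w : W3, w + w = 0 := by decide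
      linear_combination z (q (v + v')) - z (q v) - z (q v'))
    (fun f h1 h2 => (full f h1 h2).imp fun g hg v => by rw [qg, hg]) (σ := σ) (fun v => by rw [qg, hσ])
    (fun v => by
      rw [← mul_smul, ← mul_smul, ← mul_smul, mul_assoc (σ * σ)]
      obtain ⟨x, hx, e⟩ := lift v
      refine c'.fix_iff.2 ?_
      rw [← e, ← map_mul, ← map_mul, eq_comm, ← mul_inv_eq_one, ← map_inv, ← map_mul]
      exact (QuotientGroup.eq_one_iff _).2 (by simpa [mul_assoc] using cm _ (inv_mem hx) _ σ4))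
  refine ⟨⟨fun x y => Subtype.ext ?_⟩⟩
  obtain ⟨u, hu⟩ := (c'.mem_iff _).1 (mem_map_of_mem f x.2)
  obtain ⟨v, hv⟩ := (c'.mem_iff _).1 (mem_map_of_mem f y.2)
  have := congrArg c.e (add u v)
  rw [c.map_add, hq u x x.2 hu.symm, hq v y y.2 hv.symm, hq _ (x * y) (mul_mem x.2 y.2)
    (by rw [map_mul, c'.map_add, hu, hv])] at this
  change (x : G) * y = y * x
  calc _ = (x : G)⁻¹ * (x * x * (y * y)) * (y : G)⁻¹ := by group
    _ = _ := by rw [← this]; group

theorem Hyp.sol (h : Hyp W) (hO : pPrimeCore 2 G = ⊥) (hp : (Nat.card W - 1).Prime) : Group.IsSolvable G := by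
  have := h.normal
  obtain ⟨S, hS⟩ := Syl.exists 2 𝐂(W)
  have st := h.syl hp hS
  have le := h.le_syl hS
  obtain ⟨n, ⟨c⟩⟩ := exists_ch h.elem
  have cW : Nat.card W = 2 ^ n := by rw [c.card]; simp
  have : Group.IsSolvable c.ρ.ker := c.ker ▸ h.cent_sol (by have := hp.two_le; omega) hO hS
    (st.elim (fun k => (abelian_iff_der.1 k).le.trans bot_le) And.left)
  rw [cW] at hp
  have np := (Nat.prime_of_pow_sub_one_prime (fun e => by rw [e] at hp; exact Nat.not_prime_one hp) hp).2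
  have : Finite c.ρ.range := .of_surjective _ c.ρ.rangeRestrict_surjective
  have : Group.IsSolvable c.ρ.range := by
    rcases (Agent.S4179.result n (by simp) hp c.ρ.range).1 (fun v w hv hw => by
      obtain ⟨g, hg⟩ := h.tr _ (c.mem v) (mt c.eq_one.1 hv) _ (c.mem w) (mt c.eq_one.1 hw)
      exact ⟨_, ⟨g, rfl⟩, c.inj (by rw [c.conj, hg])⟩) with ⟨-, k⟩ | ⟨k, -⟩ | k
    · exact Char.isSolvable_of_card_dvd_pow_mul_pow _ np hp (a := 1) (b := 1) (by rw [k]; simp)
    · exact Char.isSolvable_of_card_dvd_pow_mul_pow _ np hp (a := 1) (b := 1) (by rw [k]; simp)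
    by_cases n2 : n = 2
    · subst n2
      refine Char.isSolvable_of_card_dvd_pow_mul_pow _ Nat.prime_two Nat.prime_three (a := 1) (b := 1) ?_
      rw [k, card_top, ← Nat.card_congr ((Matrix.GeneralLinearGroup.toLin' (Pi.basisFun _ _)).trans
        (LinearMap.GeneralLinearGroup.generalLinearEquiv _ _)).toEquiv, Matrix.card_GL_field]
      simp
    exfalso
    have lW : W ≤ 𝐍(S) := le.trans le_normalizer
    let c' : Ch 2 (W.subgroupOf 𝐍(S)) (Fin n → ZMod 2) :=
      ⟨fun u => ⟨c.e u, lW (c.mem u)⟩, c.ρ.comp 𝐍(S).subtype, fun _ _ e => c.inj (Subtype.mk.inj e),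
        fun x => (c.mem_iff x).trans (exists_congr fun _ => ⟨fun e => Subtype.ext e, congrArg Subtype.val⟩),
        fun u v => Subtype.ext (c.map_add u v), fun g u => Subtype.ext (c.conj g u)⟩
    have hs : Function.Surjective c'.ρ := fun e => by
      obtain ⟨g, rfl⟩ : e ∈ c.ρ.range := k ▸ mem_top e
      obtain ⟨x, hx, e⟩ := h.frattini hS g
      exact ⟨⟨x, hx⟩, LinearEquiv.ext fun u => c.inj (by
        rw [c.conj, ← e _ (c.mem u)]; exact c.conj x u)⟩
    have hS' : Syl 2 (S.subgroupOf 𝐍(S)) 𝐂(W.subgroupOf 𝐍(S)) := by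
      rw [← c'.ker, ← MonoidHom.comap_ker, c.ker, comap_subtype, ← inf_subgroupOf_right 𝐂(W)]
      exact (Hall.subgroupOf_iff inf_le_right le_normalizer).2 hS.to_norm
    have hm : ∀ x : 𝐍(S), x ∈ W.subgroupOf 𝐍(S) ↔ x * x = 1 := fun x => (h.mem x).trans
      ⟨fun e => Subtype.ext e, congrArg Subtype.val⟩
    by_cases n4 : 4 ≤ n
    · exact not_ge_four (fun x => (hm x).2) c' hS' hs (by simpa using n4)
    obtain rfl : n = 3 := by have := np.two_le; omega
    let φ : W3 ≃ₗ[ZMod 2] (Fin 3 → ZMod 2) := LinearEquiv.ofFinrankEq _ _ (by simp)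
    refine not_three hm (c'.congr φ) hS' (fun e => ?_) (subgroupOf_mono _ le) (st.imp
      (fun k => ⟨⟨fun x y => Subtype.ext (Subtype.ext (Subtype.mk.inj
        (k.1.1 ⟨x.1.1, x.2⟩ ⟨y.1.1, y.2⟩)))⟩⟩) fun k => ⟨commutator_le.2 fun x hx y hy =>
          k.1 (commutator_mem_commutator hx hy), fun x hx => k.2 x hx⟩)
    obtain ⟨g, hg⟩ := hs (φ.symm.trans (e.trans φ))
    exact ⟨g, LinearEquiv.ext fun u => by simp [Ch.congr, hg]⟩
  exact Group.isSolvable_of_ker_le_range c.ρ.ker.subtype c.ρ.rangeRestrict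
    (by rw [MonoidHom.ker_rangeRestrict, range_subtype])

end Cfsg.Lib.Pyr
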